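import Cfsg.Agent.H847.RadFiveM
import Cfsg.Agent.H162.CC.Tools3

/-!
# S3828, the Monster: involution centralisers (helper961)

* `pCore_inv` : `O_p(C(a)) = 1` for all involutions `a` of the model of the Monster and all odd primes `p`;
* `Min.odd_model` : if `Min p C`, `p` odd, then the non-trivial elements of `C` commute with no involution;
* `rc_of_min` : the elements of `C` are radical elements (`RC`).
-/

set_option autoImplicit false
set_option maxRecDepth 100000

namespace Cfsg.Agent.H961.CRM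

open Subgroup Cfsg Cfsg.Agent.H162.CCR
open Cfsg.Agent.MonsterU Cfsg.Agent.MFive Cfsg.Agent.BpTab Cfsg.Agent.BpSpor.M5
open Cfsg.Agent.LThreeMB (fr XX zD self toXX KChart.Cent KChart.pi KChart.chart)
open Cfsg.Agent.MonsterU.Ch
open Cfsg.Agent.MonsterU.Lam2 (L2)
open Cfsg.Agent.H459.Rad (RC PS)
open Cfsg.Agent.H839.Rad
open Cfsg.Agent.Lib.Cores
open Cfsg.Spor (Co1)

universe u v

/-! ### Generalities -/

/-- no elements of order `p` in the solvable radical -/
theorem pCore_of_radFree {H : Type*} [Group H] [Finite H] {p : ℕ} [hp : Fact p.Prime] (h : RadFree p H) :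
    pCore p H = ⊥ := by
  by_contra hne
  have h1 : p ∣ Nat.card ↥(pCore p H) := by
    obtain ⟨n, hn⟩ := IsPGroup.iff_card.1 (pCore_isPGroup (G := H) p)
    rw [hn]
    refine dvd_pow_self p ?_
    rintro rfl
    rw [pow_zero] at hn
    exact hne (card_eq_one.1 hn)
  obtain ⟨x, hx⟩ := exists_prime_orderOf_dvd_card' p h1
  have h2 : Group.IsSolvable ↥(pCore p H) := by
    have := pCore_isNilpotent (G := H) p
    infer_instance
  refine h (x : H) (by rw [Subgroup.orderOf_coe, hx]) ?_
  exact Cfsg.Agent.H459.Rad.le_rad (Cfsg.Agent.Lib.Cores.pCore_normal p) h2 x.2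

/-- the elements of a set `C` with `Min p C` are radical elements -/
theorem rc_of_min {G : Type*} [Group G] [Finite G] [hs : IsSimpleGroup G] {p : ℕ} [hp : Fact p.Prime] {C : Set G}
    (h : Min p C) {c : G} (hc : c ∈ C) : RC (MulAut.conj c) := by
  intro M hM hcM m hm
  by_cases hT : M ⊔ zpowers c = ⊤
  · -- `M` is normal
    have hMn : M.Normal := by
      refine ⟨fun a ha g => ?_⟩
      have h1 : g ∈ normalizer (M : Set G) := by
        have h2 : M ⊔ zpowers c ≤ normalizer (M : Set G) := by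
          refine sup_le le_normalizer (zpowers_le.2 ?_)
          have h3 : M.map (MulAut.conj c).toMonoidHom ≤ M := by
            rintro _ ⟨a, ha, rfl⟩
            exact hcM a ha
          have h4 : M.map (MulAut.conj c).toMonoidHom = M := by
            refine Subgroup.eq_of_le_of_card_ge h3 ?_
            rw [card_map_of_injective (MulAut.conj c).injective]
          rw [mem_normalizer_iff]
          intro a
          refine ⟨fun ha => hcM a ha, fun ha => ?_⟩
          rw [← h4] at ha
          obtain ⟨b, hb, hab⟩ := ha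
          have h5 : b = a := (MulAut.conj c).injective hab
          rwa [← h5]
        exact h2 (hT ▸ mem_top g)
      exact (mem_normalizer_iff.1 h1 a).1 ha
    rcases hMn.eq_bot_or_eq_top with h1 | h1
    · rw [h1, mem_bot] at hm
      subst hm
      rw [map_one, inv_one, one_mul]
      exact one_mem _
    · exact absurd h1 hM
  · have hcH : c ∈ M ⊔ zpowers c := mem_sup_right (mem_zpowers c)
    have hmH : m ∈ M ⊔ zpowers c := mem_sup_left hm
    have h1 := h.loc _ hT c hc hcH
    have hn : (pCore p ↥(M ⊔ zpowers c)).Normal := Cfsg.Agent.Lib.Cores.pCore_normal p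
    -- the commutator
    have h2 : (⟨m, hmH⟩ : ↥(M ⊔ zpowers c))⁻¹ * (⟨c, hcH⟩ * ⟨m, hmH⟩ * ⟨c, hcH⟩⁻¹) ∈ pCore p ↥(M ⊔ zpowers c) := by
      have h3 := (pCore p ↥(M ⊔ zpowers c)).mul_mem (hn.conj_mem _ h1 (⟨m, hmH⟩)⁻¹)
        ((pCore p ↥(M ⊔ zpowers c)).inv_mem h1)
      have e : (⟨m, hmH⟩ : ↥(M ⊔ zpowers c))⁻¹ * ⟨c, hcH⟩ * (⟨m, hmH⟩)⁻¹⁻¹ * (⟨c, hcH⟩)⁻¹ =
          (⟨m, hmH⟩)⁻¹ * (⟨c, hcH⟩ * ⟨m, hmH⟩ * ⟨c, hcH⟩⁻¹) := by group
      rwa [e] at h3
    -- the intersection with `M`
    let R : Subgroup G := (pCore p ↥(M ⊔ zpowers c)).map (M ⊔ zpowers c).subtype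
    have hRp : IsPGroup p ↥R := (pCore_isPGroup (G := ↥(M ⊔ zpowers c)) p).map _
    have hRn : ∀ a ∈ M, ∀ r ∈ R, a * r * a⁻¹ ∈ R := by
      rintro a ha _ ⟨r, hr, rfl⟩
      exact ⟨_, hn.conj_mem r hr ⟨a, mem_sup_left ha⟩, rfl⟩
    have h5 : (R.subgroupOf M).Normal := ⟨fun r hr a => mem_subgroupOf.2 (hRn a a.2 r (mem_subgroupOf.1 hr))⟩
    have h6 : IsPGroup p ↥(R.subgroupOf M) := hRp.comap_of_injective _ (subtype_injective _)
    have h7 : Group.IsSolvable ↥(R.subgroupOf M) := by
      have := h6.isNilpotent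
      infer_instance
    have h8 := Cfsg.Agent.H459.Rad.le_rad h5 h7
    have h9 : m⁻¹ * MulAut.conj c m ∈ M := M.mul_mem (M.inv_mem hm) (hcM m hm)
    have h10 : (⟨m⁻¹ * MulAut.conj c m, h9⟩ : ↥M) ∈ R.subgroupOf M := mem_subgroupOf.2 ⟨_, h2, rfl⟩
    exact ⟨_, h8 h10, rfl⟩

section chart

variable {G : Type u} [Group G] {Q : Subgroup G} {z : G} {eta : G → L2}
  {pi : Subgroup.centralizer ({z} : Set G) →* Co1}

/-- the radical of `C(z)` -/
theorem radFree_z [Finite G] (h : Chart Q z eta pi) (hco : IsSimpleGroup Co1) (hns : ¬ Group.IsSolvable Co1)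
    {p : ℕ} (hp : p.Prime) (ho : Odd p) : RadFree p ↥(centralizer ({z} : Set G)) := by
  have : Finite Co1 := Finite.of_surjective pi h.pi_surj
  refine RadFree.of_surj hp pi h.pi_surj ?_ (RadFree.of_simple hp.one_lt.ne' hns)
  intro x hx hxo
  have h1 : (x : G) ∈ Q := (h.pi_eq_one x).1 hx
  refine not_dvd h hp ho ?_
  rw [← hxo, ← Subgroup.orderOf_coe, ← Subgroup.orderOf_mk (x : G) h1]
  exact orderOf_dvd_natCard _

end chart

/-- the radical of a double cover -/
theorem radFree_cover' {H K : Type*} [Group H] [Finite H] [Group K] [Finite K] (h : Cfsg.IsNonsplitDoubleCover H K)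
    {p : ℕ} (hp : p.Prime) (hp2 : p ≠ 2) (hK : RadFree p K) : RadFree p H := by
  obtain ⟨h2, ⟨e⟩, -⟩ := h
  refine RadFree.of_surj hp (e.toMonoidHom.comp (QuotientGroup.mk' (center H)))
    (e.surjective.comp (QuotientGroup.mk'_surjective _)) ?_ hK
  intro x hx hxo
  have h3 : x ∈ center H := by
    have h4 : e (QuotientGroup.mk' (center H) x) = 1 := hx
    rw [map_eq_one_iff e e.injective] at h4
    exact (QuotientGroup.eq_one_iff x).1 h4
  have h4 : p ∣ Nat.card ↥(center H) := by
    rw [← hxo, ← Subgroup.orderOf_mk x h3]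
    exact orderOf_dvd_natCard _
  rw [h2] at h4
  exact hp2 ((Nat.prime_dvd_prime_iff_eq hp Nat.prime_two).1 h4)

/-- the radical of the centralizer of a conjugate -/
theorem radFree_conj' {G : Type*} [Group G] [Finite G] {a b g : G} (hg : g * a * g⁻¹ = b) {p : ℕ} (hp : p.Prime)
    (h : RadFree p ↥(centralizer ({a} : Set G))) : RadFree p ↥(centralizer ({b} : Set G)) := by
  have e : ↥(centralizer ({a} : Set G)) ≃* ↥(centralizer ({b} : Set G)) := by
    refine ((centralizer ({a} : Set G)).equivMapOfInjective (MulAut.conj g).toMonoidHom (MulAut.conj g).injective).trans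
      (MulEquiv.subgroupCongr ?_)
    rw [← hg]
    exact CpAutBig.CoZero.map_centralizer g a
  exact RadFree.congr hp e.symm h

section model

open Cfsg.Agent.MonsterX Cfsg.Agent.MonsterX.Model Cfsg.Agent.MonsterX.MainPack Cfsg.Agent.MonsterX.MainSimple
  Cfsg.Agent.MonsterX.MainBasic
open Cfsg.Agent.MonsterU.Assembly Cfsg.Agent.MonsterP
open Cfsg.Agent.H847.RadFive (not_solvable_of_simple)

theorem not_solvable_co1 : ¬ Group.IsSolvable Co1 := by
  have := CpAutBig.CoOneSeven.finite_co1
  refine not_solvable_of_simple Cfsg.Agent.S0399.result.1 ?_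
  rw [Cfsg.Agent.S0399.result.2]
  norm_num

/-- the involutions of the model -/
theorem radFree_inv {p : ℕ} (hp : p.Prime) (hp2 : p ≠ 2) (a : ↥InstData.M.G) (ha : a * a = 1) (ha1 : a ≠ 1) :
    RadFree p ↥(centralizer ({a} : Set ↥InstData.M.G)) := by
  have hfin := MFive.Row.finite_model
  have hfb := H546.MFiveFull.finite_b
  have hfc := CpAutBig.CoOneSeven.finite_co1
  rcases MFive.Row.two a ha ha1 with ⟨g, hg⟩ | ⟨g, hg⟩
  · exact radFree_conj' hg hp (radFree_z (KChart.chart KDone.lft MFive.Row.hc) Cfsg.Agent.S0399.result.1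
      not_solvable_co1 hp (hp.odd_of_ne_two hp2))
  · refine radFree_conj' hg hp (radFree_cover' (H546.MFiveFull.cover_t Uncond.all (NodesGrp.prel NodesU.hyp)
      (NodesNe.ne NodesU.hyp) NodesU.conj_ten Cfsg.Agent.S1704.result) hp hp2 ?_)
    have h1 : IsSimpleGroup Cfsg.Spor.BabyMonster := Cfsg.Agent.S1704.result.1
    refine RadFree.of_simple hp.one_lt.ne' (not_solvable_of_simple h1 ?_)
    rw [Cfsg.Agent.S1704.result.2]
    norm_num

theorem na_model : ¬ IsMulCommutative ↥InstData.M.G := by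
  have := MFive.Row.finite_model
  have hs := MFive.Row.simple_model
  intro hc
  let _ : CommGroup ↥InstData.M.G :=
    { (inferInstance : Group ↥InstData.M.G) with mul_comm := fun a b => hc.is_comm.comm a b }
  have h2 : (Nat.card ↥InstData.M.G).Prime := IsSimpleGroup.prime_card
  rw [MonsterP.EquivOf.isM_model.2] at h2
  revert h2
  norm_num

theorem centralizer_ne_top {a : ↥InstData.M.G} (ha1 : a ≠ 1) : centralizer ({a} : Set ↥InstData.M.G) ≠ ⊤ := by
  intro h1
  apply ha1
  have h2 : a ∈ center ↥InstData.M.G := by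
    rw [mem_center_iff]
    intro b
    exact mem_centralizer_singleton_iff.1 (h1 ▸ mem_top b)
  rwa [MFive.Row.center_model, mem_bot] at h2

variable {p : ℕ} [hp : Fact p.Prime] {C : Set ↥InstData.M.G}

theorem pCore_model : pCore p ↥InstData.M.G = ⊥ := by
  have := MFive.Row.finite_model
  have hs := MFive.Row.simple_model
  exact pCore_eq_bot_of_simple na_model p

/-- **the non-trivial elements of `C` commute with no involution** -/
theorem not_comm (hp2 : p ≠ 2) (h : Min p C) {c : ↥InstData.M.G} (hc : c ∈ C) (hc1 : c ≠ 1) {t : ↥InstData.M.G}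
    (ht : t * t = 1) (ht1 : t ≠ 1) (hct : c * t = t * c) : False := by
  have := MFive.Row.finite_model
  exact hc1 (h.eq_one_of_mem (centralizer_ne_top ht1) (pCore_of_radFree (radFree_inv hp.out hp2 t ht ht1)) hc
    (mem_centralizer_singleton_iff.2 hct))

theorem odd_model (hp2 : p ≠ 2) (h : Min p C) {c : ↥InstData.M.G} (hc : c ∈ C) (hc1 : c ≠ 1) :
    Odd (Nat.card (centralizer ({c} : Set ↥InstData.M.G))) := by
  have := MFive.Row.finite_model
  refine h.odd_centralizer (fun t ht1 ht => ⟨_, centralizer_ne_top ht1, le_rfl, ?_⟩) hc hc1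
  exact pCore_of_radFree (radFree_inv hp.out hp2 t ht ht1)

end model

end Cfsg.Agent.H961.CRM
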