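import Cfsg.Agent.H961.CRM.Base
import Cfsg.Agent.H609.T5.MFiveD

/-!
# S3828, the Monster: `p = 5` (helper961)

`x` of order 5 and fixed rank 0 in `C(z)` (class 5B), `D = C(x) = 5^{1+6}:2.J2`: the abelian normal 5-subgroups of `D` are
contained in `⟨x⟩` (elements of order 7 of `D` have the fixed points `⟨x⟩` on `O_5(D)`), and `D` contains a Sylow
5-subgroup.
-/

set_option autoImplicit false
set_option maxRecDepth 100000

namespace Cfsg.Agent.H961.CRM

open Subgroup Cfsg Cfsg.Agent.H162.CCR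
open Cfsg.Agent.BpTab Cfsg.Agent.BpSpor.M5 Cfsg.Agent.H847
open Cfsg.Agent.H749 (PEl exists_pEl_lift)
open Cfsg.Agent.H847.RadFive (exists_rho index_le card_ker_mul map_eq_one)
open Cfsg.Agent.H609.T5.Five

universe u v

section abs

variable {D : Type u} [Group D] [Finite D] {z x : D} {N : Subgroup D} {A : Type v} [Group A]
  {f : ↥(centralizer ({z} : Set D)) →* A} {ρ : D →* A} {S : Subgroup D}

/-- normal 5-subgroups are contained in `S` -/
theorem rs_le [hs : IsSimpleGroup A] (hAc : ¬ Group.IsSolvable A) (h : RS z x N f ρ S) (hD10 : ¬ 5 ^ 10 ∣ Nat.card D)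
    {B : Subgroup D} (hB : B.Normal) (hp : IsPGroup 5 ↥B) : B ≤ S := by
  have h5 : Fact (Nat.Prime 5) := ⟨Nat.prime_five⟩
  have hBs : Group.IsSolvable ↥B := by
    have := hp.isNilpotent
    infer_instance
  have h1 := map_eq_one hAc ρ h.surj B hB hBs
  have hBN : B ≤ N := by
    intro b hb
    have h2 := h.ρs b (h1 b hb)
    obtain ⟨k, hk⟩ := hp ⟨b, hb⟩
    have hk' : b ^ 5 ^ k = 1 := congrArg Subtype.val hk
    have ho : Odd (orderOf b) := Odd.of_dvd_nat (Odd.pow (by decide)) (orderOf_dvd_of_pow_eq_one hk')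
    obtain ⟨j, hj⟩ := ho
    have h3 : b = (b * b) ^ (j + 1) := by
      rw [← pow_two, ← pow_mul]
      have e1 : 2 * (j + 1) = orderOf b + 1 := by omega
      rw [e1, pow_succ, pow_orderOf_eq_one, one_mul]
    rw [h3]
    exact pow_mem h2 _
  have hcA := JTwoOdd.card_of h.iso
  have hN8 : ¬ 5 ^ 8 ∣ Nat.card ↥N := by
    intro h8
    obtain ⟨m, -, hm⟩ := h.rad.card_N_mul hAc
    apply hD10
    rw [hm, hcA, show 10 = 8 + 2 from rfl, pow_add]
    exact mul_dvd_mul h8 (Dvd.dvd.mul_right (by norm_num) _)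
  have hSn := h.Sn
  have h2 : IsPGroup 5 ↥(S ⊔ B : Subgroup D) := h.Sp.to_sup_of_normal_left hp
  have h3 : Nat.card ↥(S ⊔ B : Subgroup D) ≤ 5 ^ 7 := by
    obtain ⟨m, hm⟩ := IsPGroup.iff_card.1 h2
    have h4 := card_dvd_of_le (sup_le h.SN hBN)
    rw [hm] at h4 ⊢
    refine Nat.pow_le_pow_right (by norm_num) ?_
    by_contra h5
    push Not at h5
    exact hN8 ((pow_dvd_pow 5 h5).trans h4)
  have h4 : S = S ⊔ B := Subgroup.eq_of_le_of_card_ge le_sup_left (by rw [h.cS]; exact h3)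
  rw [h4]
  exact le_sup_right

/-- **abelian normal 5-subgroups are contained in `⟨x⟩`** -/
theorem rs_abelian_le [hs : IsSimpleGroup A] (hAc : ¬ Group.IsSolvable A) [Finite A] (h : RS z x N f ρ S)
    (hna : ∃ a ∈ S, ∃ b ∈ S, a * b ≠ b * a) (hD10 : ¬ 5 ^ 10 ∣ Nat.card D)
    {B : Subgroup D} (hB : B.Normal) (hp : IsPGroup 5 ↥B) (hab : ∀ a ∈ B, ∀ b ∈ B, a * b = b * a) :
    B ≤ zpowers x := by
  have h5 : Fact (Nat.Prime 5) := ⟨Nat.prime_five⟩
  have h7 : Fact (Nat.Prime 7) := ⟨by norm_num⟩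
  obtain ⟨w, hw, hρw⟩ := h.exists_seven
  have hBS := rs_le hAc h hD10 hB hp
  have hxn : (zpowers x).Normal := by
    refine ⟨fun c hc g => ?_⟩
    obtain ⟨k, rfl⟩ := mem_zpowers_iff.1 hc
    rw [h.rad.xzc, mul_inv_cancel_right]
    exact hc
  set Z : Subgroup D := B ⊔ zpowers x with hZ
  have hZn : Z.Normal := inferInstance
  have hZS : Z ≤ S := sup_le hBS (zpowers_le.2 h.xS)
  have hZx : zpowers x ≤ Z := le_sup_right
  have hZab : ∀ a ∈ Z, ∀ b ∈ Z, a * b = b * a := by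
    have h1 : Z ≤ centralizer (B : Set D) := by
      refine sup_le ?_ (zpowers_le.2 ?_)
      · intro a ha
        exact mem_centralizer_iff.2 fun b hb => hab b hb a ha
      · exact mem_centralizer_iff.2 fun b _ => h.rad.xc b
    have h2 : Z ≤ centralizer (Z : Set D) := by
      rw [le_centralizer_iff]
      refine sup_le (le_centralizer_iff.1 h1) (zpowers_le.2 ?_)
      exact mem_centralizer_iff.2 fun b _ => h.rad.xc b
    intro a ha b hb
    exact (mem_centralizer_iff.1 (h2 ha) b hb).symm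
  have h1 := H609.T5.card_fix_modEq hw (S := Z) (fun s hs => hZn.conj_mem s hs w)
  have h2 : Z ⊓ centralizer ({w} : Set D) = zpowers x := by
    apply le_antisymm
    · rintro a ⟨ha, haw⟩
      exact h.cent_seven hw hρw (hZS ha) (mem_centralizer_singleton_iff.1 haw).symm
    · exact le_inf hZx (zpowers_le.2 (mem_centralizer_singleton_iff.2 (h.rad.xc w).symm))
  obtain ⟨c, hc⟩ := IsPGroup.iff_card.mp (h.Sp.to_le hZS)
  rw [h2, hc, Nat.card_zpowers, h.rad.ox] at h1
  have hc7 : c ≤ 7 := by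
    have h3 := card_dvd_of_le hZS
    rw [hc, h.cS] at h3
    exact (Nat.pow_dvd_pow_iff_le_right (by norm_num)).1 h3
  have hc1 : 1 ≤ c := by
    have h3 := card_dvd_of_le hZx
    rw [hc, Nat.card_zpowers, h.rad.ox] at h3
    by_contra h4
    have h4 : c = 0 := by omega
    rw [h4] at h3
    norm_num at h3
  rcases mod_seven (c := 1) hc1 hc7 le_rfl (by norm_num) (by rw [pow_one]; exact h1) with h3 | ⟨h3, -⟩ | ⟨-, h3⟩
  · have h4 : zpowers x = Z :=
      Subgroup.eq_of_le_of_card_ge hZx (by rw [hc, h3, Nat.card_zpowers, h.rad.ox, pow_one])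
    rw [h4]
    exact le_sup_left
  · exfalso
    have h4 : Z = S := Subgroup.eq_of_le_of_card_ge hZS (by rw [hc, h.cS, h3])
    obtain ⟨a, ha, b, hb, hab⟩ := hna
    rw [← h4] at ha hb
    exact hab (hZab a ha b hb)
  · norm_num at h3

end abs

section chart

open Cfsg.Agent.MonsterU Cfsg.Agent.MFive
open Cfsg.Agent.LThreeMB (fr XX Zx zD self toXX toCC be exists_XX_equiv)
open Cfsg.Agent.MonsterU.Ch
open Cfsg.Agent.MonsterU.Lam2 (L2)
open Cfsg.Spor (Co1)

variable {G : Type u} [Group G] {Q : Subgroup G} {z : G} {eta : G → L2}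
  {pi : Subgroup.centralizer ({z} : Set G) →* Co1}

/-- **The subgroup `C(x)`.** -/
theorem exists_five [Finite G] (H : Inp Q z eta pi) : ∃ x : G, x ≠ 1 ∧ x * z = z * x ∧
    ¬ 5 ∣ (centralizer ({x} : Set G)).index ∧ ∀ A : Subgroup G, A ≤ centralizer ({x} : Set G) →
      centralizer ({x} : Set G) ≤ normalizer (A : Set G) → IsPGroup 5 ↥A → (∀ a ∈ A, ∀ b ∈ A, a * b = b * a) →
      A ≤ zpowers x := by
  have hp : Nat.Prime 5 := Nat.prime_five
  have ho : Odd 5 := by decide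
  obtain ⟨P, x, a, b, c, u, L⟩ := exists_lifts H.h
  have hx := L.ox
  have hfr := L.fx
  obtain ⟨x₁, k₁, hx₁, hfr₁, hkx₁, hkk₁⟩ := H.k
  obtain ⟨k, hkx, hkk⟩ := exists_sq H.h hp ho (CoFive.Ranks.wclassOf _) hx₁ hfr₁ hkx₁ hkk₁ hx hfr
  have hJx := H.J _ (orderOf_pi H.h hp ho hx) hfr
  obtain ⟨f1, f2, f3, f4⟩ := j2_facts hJx
  have hD4 := dvd_zero H.h H.tr H.I H.h8 H.pr (CoFive.Ranks.wclassOf _) CoFive.Sylow.exists_four hx hfr
  obtain ⟨N, hN⟩ := exists_rad H.h (by norm_num) hx hfr (fun d hd hc => isolated H.h H.tr hx hfr d hd hc) f1 f2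
  have hkz : k * z = z * k := by rw [← hkk, mul_assoc]
  obtain ⟨-, T, -, -, hTp, hT9, -⟩ := H546.RadSeven.exists_nine (hA := f1) f3 hN
    (k := ⟨⟨k, mem_centralizer_singleton_iff.2 hkx⟩, mem_centralizer_singleton_iff.2 (Subtype.ext hkz)⟩)
    (Subtype.ext hkk) hD4 f4 (by rw [JTwoOdd.card_of hJx]; norm_num) (by rw [JTwoOdd.card_of hJx]; norm_num)
  have hxo : orderOf (x : G) = 5 := by rw [Subgroup.orderOf_coe, hx]
  have hD10 : ¬ 5 ^ 10 ∣ Nat.card ↥(centralizer ({(x : G)} : Set G)) := fun h10 =>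
    H.card (h10.trans (centralizer ({(x : G)} : Set G)).card_subgroup_dvd_card)
  obtain ⟨-, -, -, ⟨N', ρ, S, hR⟩, -⟩ := exists_local H hx hfr
  have hfA : Finite (XX (pi x)) := Finite.of_surjective ρ hR.surj
  have hna := nonab H L hR
  refine ⟨x, ?_, (mem_centralizer_singleton_iff.1 x.2), ?_, ?_⟩
  · intro h1
    rw [h1, orderOf_one] at hxo
    norm_num at hxo
  · intro h5
    apply H.card
    rw [← (centralizer ({(x : G)} : Set G)).card_mul_index, pow_succ]
    exact mul_dvd_mul (hT9.trans T.card_subgroup_dvd_card) h5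
  · intro A hA hn hAp hab
    have h1 : (A.subgroupOf (centralizer ({(x : G)} : Set G))).Normal := ⟨fun q hq d =>
      mem_subgroupOf.2 ((mem_normalizer_iff.1 (hn d.2) q).1 (mem_subgroupOf.1 hq))⟩
    have h2 : IsPGroup 5 ↥(A.subgroupOf (centralizer ({(x : G)} : Set G))) :=
      hAp.comap_of_injective _ (subtype_injective _)
    have h3 := rs_abelian_le f3 hR hna hD10 h1 h2 (fun a ha b hb =>
      Subtype.ext (hab a (mem_subgroupOf.1 ha) b (mem_subgroupOf.1 hb)))
    intro a ha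
    obtain ⟨i, hi⟩ := mem_zpowers_iff.1 (h3 (mem_subgroupOf.2 (show ((⟨a, hA ha⟩ :
      ↥(centralizer ({(x : G)} : Set G))) : G) ∈ A from ha)))
    exact mem_zpowers_iff.2 ⟨i, congrArg Subtype.val hi⟩

end chart

section model

open Cfsg.Agent.MonsterX Cfsg.Agent.MonsterX.InstData Cfsg.Agent.MonsterP
open Cfsg.Agent.LThreeMB (KChart.pi KChart.chart)

/-- **`p = 5`** -/
theorem crow_five {C : Set ↥InstData.M.G} (h : Min 5 C) : ∀ c ∈ C, c = 1 := by
  have hfin := MFive.Row.finite_model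
  have : Fact (Nat.Prime 5) := ⟨Nat.prime_five⟩
  have hch := KChart.chart KDone.lft MFive.Row.hc
  intro c₀ hc₀
  by_contra hc₀1
  obtain ⟨x, hx1, hxz, hi, hA'⟩ := exists_five (G := ↥InstData.M.G) ⟨hch, BpSpor.M5.trNe,
    CpAutBFive.Closed.coFive H546.MFiveFull.hJ, H546.MFiveFull.hJ, CpAutBFive.Closed.hnEight, BpSpor.M5.hasPair,
    BpSpor.M5.exists_k BpSpor.M5.hA, H546.MFiveFull.card_model, fun r hr => CpAutBFive.EvenRow.cases hr⟩
  obtain ⟨A, hA, hn, hp, hab, e, he, he1, heA⟩ := h.exists_abelian pCore_model hc₀ hc₀1 (centralizer_ne_top hx1) hi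
  obtain ⟨k, hk⟩ := mem_zpowers_iff.1 (hA' A hA hn hp hab heA)
  refine not_comm (by norm_num) h he he1 hch.large.z_sq hch.large.z_ne ?_
  rw [← hk]
  exact ((show Commute x KDone.K.z from hxz).zpow_left k).eq

end model

end Cfsg.Agent.H961.CRM
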