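import Cfsg.Agent.H961.CRM.Base
import Cfsg.Agent.H961.SevM

/-!
# S3828, the Monster: `p = 7` (helper961)

`w` of order 7 (class 7B) with `C(w) ≥ P`, `Q = O_7(C(w)) = 7^{1+4}`: the abelian 7-subgroups normalised by `C(w)` are
contained in `⟨w⟩`, and `w` commutes with the involution `z`.
-/

set_option autoImplicit false
set_option maxRecDepth 100000

namespace Cfsg.Agent.H961.CRM

open Subgroup Cfsg Cfsg.Agent.H162.CCR
open Cfsg.Agent.H961.SevLift Cfsg.Agent.H961.SevM

/-- **abelian normal 7-subgroups of `C(w)`** -/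
theorem qq_abelian_le {K : Type*} [Group K] [Finite K] {y w v s a c : K} {Q : Subgroup K} (h : Loc y w v s a c)
    (hQ : QQ w Q) (h5 : ¬ 7 ^ 5 ∣ Nat.card ↥(centralizer ({y} : Set K))) (h7 : ¬ 7 ^ 7 ∣ Nat.card K)
    {A : Subgroup K} (hA : A ≤ centralizer ({w} : Set K)) (hn : centralizer ({w} : Set K) ≤ normalizer (A : Set K))
    (hp : IsPGroup 7 ↥A) (hab : ∀ x ∈ A, ∀ y ∈ A, x * y = y * x) : A ≤ zpowers w := by
  obtain ⟨hw1, s1, hs1, hs1w⟩ := h.mem_Q hQ h5 h7
  have hAn : ∀ d : K, d * w = w * d → ∀ q ∈ A, d * q * d⁻¹ ∈ A := fun d hd q hq =>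
    (mem_normalizer_iff.1 (hn (mem_centralizer_singleton_iff.2 hd)) q).1 hq
  have hAQ : A ≤ Q := hQ.max A hA hAn hp
  have hAw : ∀ x ∈ A, x * w = w * x := fun x hx => mem_centralizer_singleton_iff.1 (hA hx)
  by_contra hne
  have hU : A ⊔ zpowers w = Q := by
    refine hQ.irr _ ?_ (mem_sup_right (mem_zpowers w)) (sup_le hAQ (zpowers_le.2 hQ.mem)) ?_
    · intro d hd q hq
      have h1 : (A ⊔ zpowers w).map (MulAut.conj d).toMonoidHom ≤ A ⊔ zpowers w := by
        rw [Subgroup.map_sup]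
        refine sup_le_sup ?_ ?_
        · rintro _ ⟨b, hb, rfl⟩
          exact hAn d hd b hb
        · rintro _ ⟨b, hb, rfl⟩
          obtain ⟨k, rfl⟩ := mem_zpowers_iff.1 hb
          change d * w ^ k * d⁻¹ ∈ _
          rw [((show Commute d w from hd).zpow_right k).eq, mul_inv_cancel_right]
          exact hb
      exact h1 ⟨q, hq, rfl⟩
    · intro e
      apply hne
      rw [← e]
      exact le_sup_left
  -- `Q` is abelian
  have hcA : A ≤ centralizer ((A ⊔ zpowers w : Subgroup K) : Set K) := by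
    rw [← le_centralizer_iff]
    refine sup_le ?_ ?_
    · intro x hx
      exact mem_centralizer_iff.2 fun y hy => hab y hy x hx
    · refine zpowers_le.2 (mem_centralizer_iff.2 fun y hy => hAw y hy)
  have hcw : zpowers w ≤ centralizer ((A ⊔ zpowers w : Subgroup K) : Set K) := by
    rw [← le_centralizer_iff]
    refine sup_le ?_ ?_
    · intro x hx
      refine mem_centralizer_iff.2 fun y hy => ?_
      obtain ⟨k, rfl⟩ := mem_zpowers_iff.1 hy
      exact ((show Commute x w from hAw x hx).zpow_right k).eq.symm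
    · refine zpowers_le.2 (mem_centralizer_iff.2 fun y hy => ?_)
      obtain ⟨k, rfl⟩ := mem_zpowers_iff.1 hy
      exact ((Commute.refl w).zpow_left k).eq
  have hc := sup_le hcA hcw
  rw [hU] at hc
  exact hs1w (mem_centralizer_iff.1 (hc hw1) s1 hs1)

open Cfsg.Agent.MonsterX Cfsg.Agent.MonsterX.InstData Cfsg.Agent.MonsterP
open Cfsg.Agent.LThreeMB (KChart.pi KChart.chart)

/-- **`p = 7`** -/
theorem crow_seven {C : Set ↥InstData.M.G} (h : Min 7 C) : ∀ c ∈ C, c = 1 := by
  have hfin := MFive.Row.finite_model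
  have hp7 : Nat.Prime 7 := by norm_num
  have : Fact (Nat.Prime 7) := ⟨hp7⟩
  intro c₀ hc₀
  by_contra hc₀1
  obtain ⟨y, v, s, a, c, w, hL, h5⟩ := exists_data'
  obtain ⟨Q, hQ, -⟩ := exists_qq hL h5
  obtain ⟨P, -, hP⟩ := hL.sylow_le h5 (by rw [card_model]; norm_num)
  have hi : ¬ 7 ∣ (centralizer ({(w : ↥InstData.M.G)} : Set ↥InstData.M.G)).index := fun hd =>
    P.not_dvd_index (hd.trans (index_dvd_of_le hP))
  obtain ⟨A, hA, hn, hp, hab, e, he, he1, heA⟩ := h.exists_abelian pCore_model hc₀ hc₀1 (centralizer_ne_top hL.w1) hi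
  have h1 := qq_abelian_le hL hQ h5 (by rw [card_model]; norm_num) hA hn hp hab heA
  have hch := KChart.chart KDone.lft MFive.Row.hc
  refine not_comm (by norm_num) h he he1 hch.large.z_sq hch.large.z_ne ?_
  obtain ⟨k, hk⟩ := mem_zpowers_iff.1 h1
  rw [← hk]
  exact ((show Commute (w : ↥InstData.M.G) KDone.K.z from mem_centralizer_singleton_iff.1 w.2).zpow_left k).eq

end Cfsg.Agent.H961.CRM
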