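import Cfsg.Agent.H961.CRM.Eleven
import Cfsg.Agent.H109.NrT1
import Cfsg.Agent.H131.T5M13

/-!
# S3828, the Monster: `p = 13` (helper961)

If the Sylow 13-subgroups are not abelian, all elements of order 13 commute with an involution (`H131.T5M13`);
an element `c ∈ C` of order 169: `c ∈ O_13(C(c ^ 13))`, and an involution commuting with `c ^ 13` inverts `c` modulo
`⟨c ^ 13⟩`.
-/

set_option autoImplicit false
set_option maxRecDepth 100000

namespace Cfsg.Agent.H961.CRM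

open Subgroup Cfsg Cfsg.Agent.H162.CCR

section gen

variable {G : Type*} [Group G] [Finite G] {p : ℕ} [hp : Fact p.Prime]

/-- commutators in a `p`-group of order dividing `p ^ 3` with a central element `u` of order `p` -/
theorem comm_mem_zpowers {Y : Subgroup G} (hY : IsPGroup p ↥Y) (h4 : ¬ p ^ 4 ∣ Nat.card ↥Y) {u : G} (hu : orderOf u = p)
    (huY : u ∈ Y) (huc : ∀ y ∈ Y, y * u = u * y) {a b : G} (ha : a ∈ Y) (hb : b ∈ Y) :
    a * b * a⁻¹ * b⁻¹ ∈ zpowers u := by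
  let U : Subgroup ↥Y := zpowers ⟨u, huY⟩
  have hUn : U.Normal := by
    refine ⟨fun c hc g => ?_⟩
    obtain ⟨k, rfl⟩ := mem_zpowers_iff.1 hc
    have h1 : Commute g (⟨u, huY⟩ : ↥Y) := Subtype.ext (huc g g.2)
    rw [(h1.zpow_right k).eq, mul_inv_cancel_right]
    exact hc
  have hUc : Nat.card ↥U = p := by rw [Nat.card_zpowers, Subgroup.orderOf_mk, hu]
  obtain ⟨n, hn⟩ := IsPGroup.iff_card.1 hY
  have hn3 : n ≤ 3 := by
    by_contra h5
    apply h4
    rw [hn]
    exact pow_dvd_pow p (by omega)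
  have hq : Nat.card (↥Y ⧸ U) * p = p ^ n := by
    rw [← hn, ← hUc]
    exact (Subgroup.card_eq_card_quotient_mul_card_subgroup U).symm
  have hqp : IsPGroup p (↥Y ⧸ U) := hY.to_quotient U
  have hfq : Finite (↥Y ⧸ U) := inferInstance
  obtain ⟨P, hP⟩ := (hqp.to_subgroup ⊤).exists_le_sylow
  have h5 := H109.Nr.sylow_comm (K := ↥Y ⧸ U) hp.out (by
    intro h6
    have h7 : p ^ 3 * p ∣ p ^ n := by
      rw [← hq]
      exact mul_dvd_mul_right h6 p
    rw [← pow_succ, Nat.pow_dvd_pow_iff_le_right hp.out.one_lt] at h7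
    omega) P
  have h6 := h5 _ (hP (mem_top (QuotientGroup.mk' U ⟨a, ha⟩))) _ (hP (mem_top (QuotientGroup.mk' U ⟨b, hb⟩)))
  have h7 : QuotientGroup.mk' U (⟨a, ha⟩ * ⟨b, hb⟩ * (⟨a, ha⟩)⁻¹ * (⟨b, hb⟩)⁻¹) = 1 := by
    rw [map_mul, map_mul, map_mul, map_inv, map_inv, h6]
    group
  have h8 := (QuotientGroup.eq_one_iff _).1 h7
  obtain ⟨k, hk⟩ := mem_zpowers_iff.1 h8
  exact mem_zpowers_iff.2 ⟨k, congrArg Subtype.val hk⟩

/-- **An element `c` with `c ^ p` of order `p`**, `c ∈ O_p(C(c ^ p))`: no involution `s` with `p ^ 2 ∤ |C(s)|` commutes with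
`c ^ p`. -/
theorem false_of_pow (hp2 : p ≠ 2) (h4 : ¬ p ^ 4 ∣ Nat.card G) {c s : G} (hc : orderOf (c ^ p) = p)
    (hm : ∀ hcC : c ∈ centralizer ({c ^ p} : Set G), (⟨c, hcC⟩ : ↥(centralizer ({c ^ p} : Set G))) ∈
      pCore p ↥(centralizer ({c ^ p} : Set G))) (hs : s * s = 1) (hcs : c ^ p * s = s * c ^ p)
    (hsq : ¬ p ^ 2 ∣ Nat.card ↥(centralizer ({s} : Set G))) : False := by
  obtain ⟨u, hu⟩ : ∃ u, u = c ^ p := ⟨_, rfl⟩
  rw [← hu] at hc hm hcs
  have hcu : Commute c u := hu ▸ (Commute.refl c).pow_right p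
  have hcC : c ∈ centralizer ({u} : Set G) := mem_centralizer_singleton_iff.2 hcu.eq
  let Y : Subgroup G := (pCore p ↥(centralizer ({u} : Set G))).map (centralizer ({u} : Set G)).subtype
  have hYp : IsPGroup p ↥Y := (Cfsg.Agent.Lib.Cores.pCore_isPGroup (G := ↥(centralizer ({u} : Set G))) p).map _
  have hYn : ∀ a : G, a * u = u * a → ∀ y ∈ Y, a * y * a⁻¹ ∈ Y := by
    rintro a ha _ ⟨y, hy, rfl⟩
    exact ⟨_, (Cfsg.Agent.Lib.Cores.pCore_normal (G := ↥(centralizer ({u} : Set G))) p).conj_mem y hy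
      ⟨a, mem_centralizer_singleton_iff.2 ha⟩, rfl⟩
  have hYu : ∀ y ∈ Y, y * u = u * y := by
    rintro _ ⟨y, -, rfl⟩
    exact mem_centralizer_singleton_iff.1 y.2
  have cY : c ∈ Y := ⟨_, hm hcC, rfl⟩
  have uY : u ∈ Y := by rw [hu]; exact pow_mem cY p
  have hsi : s⁻¹ = s := inv_eq_of_mul_eq_one_left hs
  obtain ⟨c', hc'⟩ : ∃ x, x = s * c * s⁻¹ := ⟨_, rfl⟩
  have c'Y : c' ∈ Y := hc' ▸ hYn s hcs.symm c cY
  have hsc' : s * c' * s⁻¹ = c := by
    rw [hc', hsi]
    calc s * (s * c * s) * s = (s * s) * c * (s * s) := by group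
      _ = c := by rw [hs, one_mul, mul_one]
  have hsu : ∀ k : ℤ, s * u ^ k * s⁻¹ = u ^ k := fun k => by
    rw [((show Commute s u from hcs.symm).zpow_right k).eq, mul_inv_cancel_right]
  -- the commutator
  obtain ⟨j, hj⟩ := mem_zpowers_iff.1 (comm_mem_zpowers hYp (fun h => h4 (h.trans (card_subgroup_dvd_card _))) hc uY hYu
    c'Y cY)
  have h1 : c' * c = u ^ j * (c * c') := by
    rw [hj]
    group
  have h2 : s * (c * c') * s⁻¹ = u ^ j * (c * c') := by
    calc s * (c * c') * s⁻¹ = (s * c * s⁻¹) * (s * c' * s⁻¹) := by group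
      _ = c' * c := by rw [← hc', hsc']
      _ = _ := h1
  have h3 : u ^ j * u ^ j = 1 := by
    have h4 : s * (s * (c * c') * s⁻¹) * s⁻¹ = c * c' := by
      calc s * (s * (c * c') * s⁻¹) * s⁻¹ = (s * s) * (c * c') * (s * s)⁻¹ := by group
        _ = c * c' := by rw [hs]; group
    have h5 : s * (s * (c * c') * s⁻¹) * s⁻¹ = u ^ j * (u ^ j * (c * c')) := by
      rw [h2]
      calc s * (u ^ j * (c * c')) * s⁻¹ = (s * u ^ j * s⁻¹) * (s * (c * c') * s⁻¹) := by group
        _ = _ := by rw [hsu, h2]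
    rw [h4, ← mul_assoc] at h5
    exact (mul_eq_right.1 h5.symm)
  have hodd : Odd p := hp.out.odd_of_ne_two hp2
  have h5 : u ^ j = 1 := by
    rw [← zpow_add, ← orderOf_dvd_iff_zpow_eq_one, hc] at h3
    rw [← orderOf_dvd_iff_zpow_eq_one, hc]
    have h6 : (p : ℤ) ∣ 2 * j := by
      have : j + j = 2 * j := by ring
      rwa [this] at h3
    rcases (Int.Prime.dvd_mul' hp.out h6) with h7 | h7
    · exfalso
      have h8 : p ∣ 2 := by exact_mod_cast h7
      exact hp2 ((Nat.prime_dvd_prime_iff_eq hp.out Nat.prime_two).1 h8)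
    · exact h7
  rw [h5, one_mul] at h1 h2
  have h6 : (c * c') * s = s * (c * c') := (mul_inv_eq_iff_eq_mul.1 h2).symm
  obtain ⟨i, hi⟩ := mem_zpowers_iff.1 (mem_zpowers_of_sq hc (hYp.to_le (zpowers_le.2 (Y.mul_mem cY c'Y)))
    (hYu _ (Y.mul_mem cY c'Y)) h6 hcs.symm.symm hsq)
  -- `c' = c⁻¹ u ^ i`
  have h7 : c' = c⁻¹ * u ^ i := by rw [hi]; group
  have h8 : c' ^ p = u := by rw [hc', conj_pow, ← hu]; exact (by simpa using hsu 1)
  have h9 : c' ^ p = u⁻¹ := by
    rw [h7, ((hcu.zpow_right i).inv_left).mul_pow, inv_pow, ← hu, ← zpow_natCast, ← zpow_mul, mul_comm, zpow_mul,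
      zpow_natCast, show u ^ p = 1 by rw [← hc, pow_orderOf_eq_one], one_zpow, mul_one]
  rw [h8] at h9
  have h10 : u ^ 2 = 1 := by
    rw [pow_two]
    nth_rw 1 [h9]
    exact inv_mul_cancel u
  have h11 := orderOf_dvd_of_pow_eq_one h10
  rw [hc] at h11
  exact hp2 ((Nat.prime_dvd_prime_iff_eq hp.out Nat.prime_two).1 h11)

end gen

section model

open Cfsg.Agent.MonsterX Cfsg.Agent.BpSpor.MBigModel Cfsg.Agent.H131.T5M13

/-- non-abelian Sylow 13-subgroups: all elements of order 13 commute with an involution -/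
theorem exists_inv_thirteen (hna : ∀ S : Sylow 13 ↥InstData.M.G, ∃ a ∈ (S : Subgroup ↥InstData.M.G),
    ∃ b ∈ (S : Subgroup ↥InstData.M.G), a * b ≠ b * a) {a : ↥InstData.M.G} (ha : orderOf a = 13) :
    ∃ s : ↥InstData.M.G, s * s = 1 ∧ s ≠ 1 ∧ a * s = s * a := by
  have hfin := MFive.Row.finite_model
  obtain ⟨x, z, t, Q, h⟩ := model_D
  obtain ⟨R, W, hr⟩ := h.exists_RW hna
  by_cases hb : TB z a
  · obtain ⟨g, hg⟩ := hb
    have hz := sq_of_two h.hyp.hz
    refine ⟨g * z * g⁻¹, ?_, ?_, hg⟩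
    · calc g * z * g⁻¹ * (g * z * g⁻¹) = g * (z * z) * g⁻¹ := by group
        _ = 1 := by rw [hz.1]; group
    · intro h1
      exact hz.2 (conj_eq_one_iff.1 h1)
  · obtain ⟨a₀, ha₀, hat, hb₀⟩ := h.exists_bad
    obtain ⟨k, hk⟩ := h.bad_conj' hr ha₀ ha hb₀ hb
    obtain ⟨g, hg⟩ := isConj_iff.1 hk
    have ht := sq_of_two h.ot
    refine ⟨g * t * g⁻¹, ?_, ?_, ?_⟩
    · calc g * t * g⁻¹ * (g * t * g⁻¹) = g * (t * t) * g⁻¹ := by group
        _ = 1 := by rw [ht.1]; group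
    · intro h1
      exact ht.2 (conj_eq_one_iff.1 h1)
    · rw [← hg]
      calc g * a₀ ^ k * g⁻¹ * (g * t * g⁻¹) = g * (a₀ ^ k * t) * g⁻¹ := by group
        _ = g * (t * a₀ ^ k) * g⁻¹ := by rw [((show Commute a₀ t from hat).zpow_left k).eq]
        _ = _ := by group

/-- **`p = 13`** -/
theorem crow_thirteen {C : Set ↥InstData.M.G} (h : Min 13 C) : ∀ c ∈ C, c = 1 := by
  have hfin := MFive.Row.finite_model
  have hp : Nat.Prime 13 := by norm_num
  have hpf : Fact (Nat.Prime 13) := ⟨hp⟩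
  have h4 : ¬ 13 ^ 4 ∣ Nat.card ↥InstData.M.G := by
    rw [card_M]
    norm_num
  by_cases hab : ∀ S : Sylow 13 ↥InstData.M.G, ∃ a ∈ (S : Subgroup ↥InstData.M.G),
    ∃ b ∈ (S : Subgroup ↥InstData.M.G), a * b ≠ b * a
  · intro c hc
    by_contra hc1
    obtain ⟨k, hk⟩ := h.pel c hc
    have hk1 : k ≠ 0 := by
      rintro rfl
      rw [pow_zero, orderOf_eq_one_iff] at hk
      exact hc1 hk
    -- `k ≤ 2`
    have hk2 : k ≤ 2 := by
      by_contra hlt
      -- a cyclic Sylow subgroup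
      have h5 : IsPGroup 13 ↥(zpowers c) := h.isPGroup_zpowers hc
      obtain ⟨S, hS⟩ := h5.exists_le_sylow
      obtain ⟨a, ha, b, hb, hne⟩ := hab S
      have h6 : zpowers c = (S : Subgroup ↥InstData.M.G) := by
        refine eq_of_le_of_card_ge hS ?_
        obtain ⟨n, hn⟩ := IsPGroup.iff_card.1 S.isPGroup'
        rw [hn, Nat.card_zpowers, hk]
        refine Nat.pow_le_pow_right (by norm_num) ?_
        have h7 : n ≤ 3 := by
          by_contra h8
          exact h4 ((pow_dvd_pow 13 (by omega : 4 ≤ n)).trans (hn ▸ card_subgroup_dvd_card _))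
        omega
      rw [← h6] at ha hb
      obtain ⟨i, rfl⟩ := mem_zpowers_iff.1 ha
      obtain ⟨j, rfl⟩ := mem_zpowers_iff.1 hb
      exact hne (by rw [← zpow_add, ← zpow_add, add_comm])
    have hk3 : k = 1 ∨ k = 2 := by omega
    rcases hk3 with rfl | rfl
    · rw [pow_one] at hk
      obtain ⟨s, hs, hs1, hcs⟩ := exists_inv_thirteen hab hk
      exact not_comm (by norm_num) h hc hc1 hs hs1 hcs
    · have ho : orderOf (c ^ 13) = 13 := by
        rw [orderOf_pow' _ (by norm_num), hk]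
        norm_num
      obtain ⟨s, hs, hs1, hcs⟩ := exists_inv_thirteen hab ho
      refine false_of_pow (by norm_num) h4 ho (fun hcC => h.loc _ (centralizer_ne_top ?_) c hc hcC) hs hcs
        (not_sq (Or.inr rfl) (orderOf_two hs hs1))
      intro h1
      rw [h1, orderOf_one] at ho
      norm_num at ho
  · push Not at hab
    obtain ⟨S, hS⟩ := hab
    have hab' : ∀ P : Sylow 13 ↥InstData.M.G, ∀ a ∈ P, ∀ b ∈ P, a * b = b * a := by
      intro P a ha b hb
      obtain ⟨g, hg⟩ := MulAction.exists_smul_eq ↥InstData.M.G P S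
      have key : ∀ a ∈ P, g * a * g⁻¹ ∈ (S : Subgroup ↥InstData.M.G) := by
        intro a ha
        rw [← hg, Sylow.coe_subgroup_smul]
        exact smul_mem_pointwise_smul a (MulAut.conj g) _ ha
      have h1 := hS _ (key a ha) _ (key b hb)
      have h2 : g * (a * b) * g⁻¹ = g * (b * a) * g⁻¹ := by
        calc g * (a * b) * g⁻¹ = (g * a * g⁻¹) * (g * b * g⁻¹) := by group
          _ = (g * b * g⁻¹) * (g * a * g⁻¹) := h1
          _ = _ := by group
      exact mul_left_cancel (mul_right_cancel h2)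
    obtain ⟨u, v, w, hu, hv, hw, huv, huw, hvw, hne⟩ := H109.Nr.T.exists_fours (r := 13) hp (by norm_num) (by norm_num)
    exact four_abelian (by norm_num) h hab'
      (fun c hc hc1 t ht ht1 hct => not_comm (by norm_num) h hc hc1 ht ht1 hct)
      (fun s hs hs1 => not_sq (Or.inr rfl) (orderOf_two hs hs1)) (fun x hx => centralizer_ne_top hx) hu
      (sq_of_two hv).1 (sq_of_two hv).2 (sq_of_two hw).1 (sq_of_two hw).2 huv huw hvw hne

end model

end Cfsg.Agent.H961.CRM
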