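import Cfsg.Agent.H961.CRM.Base
import Cfsg.Agent.H561.AAM3

/-!
# S3828, the Monster: `p = 3` (helper961, after helper561)

`x` of order 3 and fixed rank 0 in `C(z)` (class 3B), `D = C(x) = 3^{1+12}.2.Suz`, `w` a conjugate of `z` commuting with
`x` and `z`. An abelian normal 3-subgroup `A` of `D` containing a non-trivial element `a` of `C` contains an element `b`
of order 3, `b ∉ ⟨x⟩`, commuting with `w`; `C(b) / ⟨b⟩ ≅ Fi24'` (`rank_twelve`), so `a ∈ ⟨b⟩` commutes with `w`.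
-/

set_option autoImplicit false
set_option maxRecDepth 100000

namespace Cfsg.Agent.H961.CRM

open Subgroup Cfsg Cfsg.Agent.H162.CCR
open Cfsg.Agent.LThreeMB Cfsg.Agent.MonsterU Cfsg.Agent.MonsterU.Ch
open Cfsg.Agent.MonsterU.Lam2 (L2 IsType)
open Cfsg.Agent.H561.AAM3 (rank_twelve)
open Cfsg.Spor (Co1)

universe u

instance factThree : Fact (Nat.Prime 3) := ⟨Nat.prime_three⟩

section abs

/-- the element `b` -/
theorem exists_b {D : Type u} [Group D] [Finite D] {z x : D} {N : Subgroup D} {K : Type*} [Group K]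
    {f : ↥(centralizer ({z} : Set D)) →* K} (h : BpSpor.M5.Rad 3 z x N f) {A : Subgroup D} (hAn : A.Normal)
    (hAN : A ≤ N) (hAp : IsPGroup 3 ↥A) (hab : ∀ a ∈ A, ∀ b ∈ A, a * b = b * a) {a w : D} (ha : a ∈ A)
    (hww : w * w = 1) (hwz : w * z = z * w) (hne : w ≠ z) (hodd : ∀ t : D, t * t = 1 → t ≠ 1 → a * t = t * a → False) :
    ∃ b ∈ A, b ^ 3 = 1 ∧ a * b = b * a ∧ w * b = b * w ∧ b ∉ zpowers x := by
  have hwi : w⁻¹ = w := inv_eq_of_mul_eq_one_left hww
  have hzi : z⁻¹ = z := inv_eq_of_mul_eq_one_left h.zz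
  have haN := hAN ha
  obtain ⟨a', ha'⟩ : ∃ a', a' = w * a * w⁻¹ := ⟨_, rfl⟩
  have ha'A : a' ∈ A := ha' ▸ hAn.conj_mem a ha w
  have hwa' : w * a' * w⁻¹ = a := by
    rw [ha', hwi]
    calc w * (w * a * w) * w = (w * w) * a * (w * w) := by group
      _ = a := by rw [hww, one_mul, mul_one]
  have hcomm : a * a' = a' * a := hab a ha a' ha'A
  obtain ⟨b₀, hb₀⟩ : ∃ b₀, b₀ = a * a' := ⟨_, rfl⟩
  have hb₀A : b₀ ∈ A := hb₀ ▸ A.mul_mem ha ha'A
  have hwb₀ : w * b₀ = b₀ * w := by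
    rw [hb₀]
    calc w * (a * a') = (w * a * w⁻¹) * (w * a' * w⁻¹) * w := by group
      _ = a' * a * w := by rw [hwa', ← ha']
      _ = a * a' * w := by rw [hcomm]
  have hb₀x : b₀ ∉ zpowers x := by
    rintro ⟨k, hk⟩
    have hk' : x ^ k = a * a' := hk.trans hb₀
    obtain ⟨j, hj⟩ := h.inv (by norm_num) haN
    have h1 : a' = a⁻¹ * x ^ k := by rw [hk']; group
    have h2 : (z * w) * (z * w) = 1 := by
      calc (z * w) * (z * w) = z * (w * z) * w := by group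
        _ = (z * z) * (w * w) := by rw [hwz]; group
        _ = 1 := by rw [h.zz, hww, one_mul]
    have h3 : (z * w) * a * (z * w)⁻¹ = a * x ^ (k - j) := by
      calc (z * w) * a * (z * w)⁻¹ = z * (w * a * w⁻¹) * z⁻¹ := by group
        _ = z * (a⁻¹ * x ^ k) * z⁻¹ := by rw [← ha', h1]
        _ = (z * a * z⁻¹)⁻¹ * (z * x ^ k * z⁻¹) := by group
        _ = (a⁻¹ * x ^ j)⁻¹ * x ^ k := by rw [hj, h.xzc k z, mul_inv_cancel_right]
        _ = (x ^ (-j) * a) * x ^ k := by rw [zpow_neg]; group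
        _ = (a * x ^ (-j)) * x ^ k := by rw [h.xzc (-j) a]
        _ = _ := by rw [mul_assoc, ← zpow_add, neg_add_eq_sub]
    have h4 := h.cent_of_mod (by norm_num) h2 h3
    rw [h4, mul_one, mul_inv_eq_iff_eq_mul] at h3
    refine hodd (z * w) h2 ?_ h3.symm
    intro h5
    apply hne
    calc w = (z * z) * w := by rw [h.zz, one_mul]
      _ = z * (z * w) := by group
      _ = z := by rw [h5, mul_one]
  -- `b₁` is inverted by `z`
  obtain ⟨b₂, hb₂⟩ : ∃ b₂, b₂ = z * b₀ * z⁻¹ := ⟨_, rfl⟩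
  have hb₂A : b₂ ∈ A := hb₂ ▸ hAn.conj_mem b₀ hb₀A z
  have hzb₂ : z * b₂ * z⁻¹ = b₀ := by
    rw [hb₂, hzi]
    calc z * (z * b₀ * z) * z = (z * z) * b₀ * (z * z) := by group
      _ = b₀ := by rw [h.zz, one_mul, mul_one]
  obtain ⟨b₁, hb₁⟩ : ∃ b₁, b₁ = b₀ * b₂⁻¹ := ⟨_, rfl⟩
  have hb₁A : b₁ ∈ A := hb₁ ▸ A.mul_mem hb₀A (A.inv_mem hb₂A)
  have hzb₁ : z * b₁ * z⁻¹ = b₁⁻¹ := by
    rw [hb₁]
    calc z * (b₀ * b₂⁻¹) * z⁻¹ = (z * b₀ * z⁻¹) * (z * b₂ * z⁻¹)⁻¹ := by group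
      _ = b₂ * b₀⁻¹ := by rw [hzb₂, ← hb₂]
      _ = _ := by group
  have hwb₂ : w * b₂ = b₂ * w := by
    rw [hb₂, hzi]
    calc w * (z * b₀ * z) = (w * z) * b₀ * z := by group
      _ = z * (w * b₀) * z := by rw [hwz]; group
      _ = z * b₀ * (w * z) := by rw [hwb₀]; group
      _ = z * b₀ * z * w := by rw [hwz]; group
  have hwb₁ : Commute w b₁ := by
    rw [hb₁]
    exact (show Commute w b₀ from hwb₀).mul_right (show Commute w b₂ from hwb₂).inv_right
  have hb₁1 : b₁ ≠ 1 := by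
    intro h1
    rw [hb₁, mul_inv_eq_one] at h1
    apply hb₀x
    refine h.cN b₀ (hAN hb₀A) ?_
    rw [hb₂, eq_mul_inv_iff_mul_eq] at h1
    exact h1
  -- a power of order 3
  obtain ⟨k, hk⟩ := hAp ⟨b₁, hb₁A⟩
  have hk' : b₁ ^ 3 ^ k = 1 := congrArg Subtype.val hk
  obtain ⟨m, -, hm⟩ := (Nat.dvd_prime_pow Nat.prime_three).1 (orderOf_dvd_of_pow_eq_one hk')
  obtain ⟨m, rfl⟩ : ∃ n, m = n + 1 := by
    cases m with
    | zero =>
      rw [pow_zero, orderOf_eq_one_iff] at hm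
      exact absurd hm hb₁1
    | succ n => exact ⟨n, rfl⟩
  have ho : orderOf (b₁ ^ 3 ^ m) = 3 := by
    rw [orderOf_pow' _ (pow_ne_zero m (by norm_num)), hm, Nat.gcd_eq_right (pow_dvd_pow 3 (Nat.le_succ m)), pow_succ,
      Nat.mul_div_cancel_left _ (Nat.pow_pos (by norm_num))]
  have hb3 : (b₁ ^ 3 ^ m) ^ 3 = 1 := by
    have := pow_orderOf_eq_one (b₁ ^ 3 ^ m)
    rwa [ho] at this
  refine ⟨b₁ ^ 3 ^ m, pow_mem hb₁A _, hb3, hab a ha _ (pow_mem hb₁A _), (hwb₁.pow_right _).eq, ?_⟩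
  intro h1
  obtain ⟨i, hi⟩ := mem_zpowers_iff.1 h1
  have h2 : z * b₁ ^ 3 ^ m * z⁻¹ = (b₁ ^ 3 ^ m)⁻¹ := by rw [← conj_pow, hzb₁, inv_pow]
  rw [← hi, h.xzc i z, mul_inv_cancel_right, hi] at h2
  have h3 : (b₁ ^ 3 ^ m) ^ 2 = 1 := by
    rw [pow_two]
    nth_rw 2 [h2]
    exact mul_inv_cancel _
  have h4 := orderOf_dvd_of_pow_eq_one h3
  rw [ho] at h4
  norm_num at h4

/-- `C(b) / ⟨b⟩` simple: the elements of `C` commuting with `b` lie in `⟨b⟩` -/
theorem mem_zpowers_of_simple {G : Type*} [Group G] [Finite G] {p : ℕ} [Fact p.Prime] {C : Set G} (hC : Min p C) {b : G}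
    (htop : centralizer ({b} : Set G) ≠ ⊤) (hs : IsSimpleGroup (XX b)) (hnc : Subgroup.center (XX b) ≠ ⊤) {c : G}
    (hc : c ∈ C) (hcb : c * b = b * c) : c ∈ zpowers b := by
  have hcC : c ∈ centralizer ({b} : Set G) := mem_centralizer_singleton_iff.2 hcb
  have h1 := hC.loc _ htop c hc hcC
  have h2 : (pCore p ↥(centralizer ({b} : Set G))).map (QuotientGroup.mk' (Zx b)) ≤ pCore p (XX b) :=
    Cfsg.Agent.Lib.Cores.le_pCore ((Cfsg.Agent.Lib.Cores.pCore_normal p).map _ (QuotientGroup.mk'_surjective _))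
      ((Cfsg.Agent.Lib.Cores.pCore_isPGroup p).map _)
  have h3 : pCore p (XX b) = ⊥ := by
    refine pCore_eq_bot_of_simple ?_ p
    intro hm
    apply hnc
    rw [eq_top_iff]
    intro s _
    rw [mem_center_iff]
    intro t
    exact hm.is_comm.comm t s
  have h4 : QuotientGroup.mk' (Zx b) ⟨c, hcC⟩ ∈ pCore p (XX b) := h2 ⟨_, h1, rfl⟩
  rw [h3, mem_bot] at h4
  obtain ⟨i, hi⟩ := (QuotientGroup.eq_one_iff _).1 h4
  exact mem_zpowers_iff.2 ⟨i, congrArg Subtype.val hi⟩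

end abs

section chart

variable {G : Type u} [Group G] {Q : Subgroup G} {z : G} {eta : G → L2}
  {pi : Subgroup.centralizer ({z} : Set G) →* Co1}

theorem orderOf_conj' {G : Type*} [Group G] (a g : G) : orderOf (g⁻¹ * a * g) = orderOf a := by
  have h1 : g⁻¹ * a * g = g⁻¹ * a * g⁻¹⁻¹ := by rw [inv_inv]
  rw [h1, ← MulAut.conj_apply, MulEquiv.orderOf_eq]

/-- **the contradiction in `C(x)`** -/
theorem false_of_abelian [Finite G] [IsSimpleGroup G] (hna : ¬ IsMulCommutative G) (h : Chart Q z eta pi)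
    (I : CoOne) (ht : TrNe z pi) {x : centralizer ({z} : Set G)} {w g : G} (hx : orderOf x = 3) (hfr : fr (pi x) = 1)
    (hwz : w * z = z * w) (hxw : (x : G) * w = w * x) (hne : w ≠ z) (hg : g * z * g⁻¹ = w) {C : Set G} (hC : Min 3 C)
    (hinv : ∀ c ∈ C, c ≠ 1 → ∀ t : G, t * t = 1 → t ≠ 1 → c * t = t * c → False) {B : Subgroup G}
    (hB : B ≤ centralizer ({(x : G)} : Set G)) (hBn : centralizer ({(x : G)} : Set G) ≤ normalizer (B : Set G))
    (hBp : IsPGroup 3 ↥B) (hBab : ∀ a ∈ B, ∀ b ∈ B, a * b = b * a) {a : G} (haC : a ∈ C) (ha1 : a ≠ 1) (haB : a ∈ B) :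
    False := by
  have hz2 : z * z = 1 := h.large.z_sq
  have hw2 : w * w = 1 := by
    rw [← hg]
    calc g * z * g⁻¹ * (g * z * g⁻¹) = g * (z * z) * g⁻¹ := by group
      _ = 1 := by rw [hz2]; group
  have hw1 : w ≠ 1 := by
    intro h1
    apply h.large.z_ne
    calc z = g⁻¹ * (g * z * g⁻¹) * g := by group
      _ = 1 := by rw [hg, h1]; group
  have hx3 : x ^ 3 = 1 := by rw [← hx, pow_orderOf_eq_one]
  have hxG : orderOf (x : G) = 3 := by rw [Subgroup.orderOf_coe, hx]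
  -- the structure of `C(x)`
  have hgood := Listed.suz.{0} (I.suz (pi x) (orderOf_pi h hx) hfr)
  have hAs := hgood.simple
  have hAc : ¬ Group.IsSolvable (XX (pi x)) := by
    intro hs
    apply hgood.nc
    rw [eq_top_iff]
    intro s _
    rw [mem_center_iff]
    intro t
    exact IsSimpleGroup.comm_iff_isSolvable.2 hs t s
  obtain ⟨N, hN⟩ := BpSpor.M5.exists_rad h (by norm_num : (3 : ℕ) ≠ 2) hx hfr
    (fun d hd hc => isolated h ht hx hfr d hd hc) hAs hgood.even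
  obtain ⟨ρ, hρ, hρN, -, hρz, hρs⟩ := H847.RadFive.exists_rho hAc hN
  -- `B` in `D`
  let A : Subgroup ↥(centralizer ({(x : G)} : Set G)) := B.subgroupOf (centralizer ({(x : G)} : Set G))
  have hAn : A.Normal := ⟨fun q hq d =>
    mem_subgroupOf.2 ((mem_normalizer_iff.1 (hBn d.2) q).1 (mem_subgroupOf.1 hq))⟩
  have hAp : IsPGroup 3 ↥A := hBp.comap_of_injective _ (subtype_injective _)
  have hAab : ∀ a ∈ A, ∀ b ∈ A, a * b = b * a := fun a ha b hb =>
    Subtype.ext (hBab a (mem_subgroupOf.1 ha) b (mem_subgroupOf.1 hb))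
  have hAsol : Group.IsSolvable ↥A := by
    have := hAp.isNilpotent
    infer_instance
  have hρA := H847.RadFive.map_eq_one hAc ρ hρ A hAn hAsol
  have hAN : A ≤ N := by
    intro b hb
    have h2 := hρs b (hρA b hb)
    obtain ⟨k, hk⟩ := hAp ⟨b, hb⟩
    have hk' : b ^ 3 ^ k = 1 := congrArg Subtype.val hk
    have ho : Odd (orderOf b) := Odd.of_dvd_nat (Odd.pow (by decide)) (orderOf_dvd_of_pow_eq_one hk')
    obtain ⟨j, hj⟩ := ho
    have h3 : b = (b * b) ^ (j + 1) := by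
      rw [← pow_two, ← pow_mul]
      have e1 : 2 * (j + 1) = orderOf b + 1 := by omega
      rw [e1, pow_succ, pow_orderOf_eq_one, one_mul]
    rw [h3]
    exact pow_mem h2 _
  have hwD : w ∈ centralizer ({(x : G)} : Set G) := mem_centralizer_singleton_iff.2 hxw.symm
  obtain ⟨⟨b, hbD⟩, hbA, hb3, hab, hwb, hbx⟩ := exists_b hN hAn hAN hAp hAab (a := ⟨a, hB haB⟩) (w := ⟨w, hwD⟩)
    (mem_subgroupOf.2 haB) (Subtype.ext hw2) (Subtype.ext hwz) (fun h1 => hne (congrArg Subtype.val h1))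
    (fun t h1 h2 h3 => hinv a haC ha1 t (congrArg Subtype.val h1) (fun h4 => h2 (Subtype.ext h4))
      (congrArg Subtype.val h3))
  have hbN := hAN hbA
  have hb3' : b ^ 3 = 1 := congrArg Subtype.val hb3
  have hab' : a * b = b * a := congrArg Subtype.val hab
  have hwb' : w * b = b * w := congrArg Subtype.val hwb
  have hbx' : b * x = x * b := mem_centralizer_singleton_iff.1 hbD
  have hbxn : b ∉ zpowers (x : G) := by
    rintro ⟨i, hi⟩
    exact hbx ⟨i, Subtype.ext hi⟩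
  have hb1 : b ≠ 1 := fun h1 => hbxn (h1 ▸ one_mem _)
  have hbo : orderOf b = 3 := orderOf_eq_prime hb3' hb1
  -- conjugate by `g⁻¹`
  have key : ∀ t : G, w * t = t * w → (g⁻¹ * t * g) * z = z * (g⁻¹ * t * g) := by
    intro t h1
    calc (g⁻¹ * t * g) * z = g⁻¹ * (t * (g * z * g⁻¹)) * g := by group
      _ = g⁻¹ * ((g * z * g⁻¹) * t) * g := by rw [hg, h1]
      _ = z * (g⁻¹ * t * g) := by group
  obtain ⟨x', hx'⟩ : ∃ x' : centralizer ({z} : Set G), (x' : G) = g⁻¹ * x * g :=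
    ⟨⟨_, mem_centralizer_singleton_iff.2 (key _ hxw.symm)⟩, rfl⟩
  obtain ⟨b', hb'⟩ : ∃ b' : centralizer ({z} : Set G), (b' : G) = g⁻¹ * b * g :=
    ⟨⟨_, mem_centralizer_singleton_iff.2 (key _ hwb')⟩, rfl⟩
  have hx'o : orderOf x' = 3 := by rw [← Subgroup.orderOf_coe, hx', orderOf_conj', hxG]
  have hb'o : orderOf b' = 3 := by rw [← Subgroup.orderOf_coe, hb', orderOf_conj', hbo]
  have h12 : fr (pi b') = 2 ^ 12 := by
    refine rank_twelve h I hx'o hb'o (Subtype.ext ?_) ?_ ?_ ?_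
    · rw [Subgroup.coe_mul, Subgroup.coe_mul, hx', hb']
      calc g⁻¹ * x * g * (g⁻¹ * b * g) = g⁻¹ * (x * b) * g := by group
        _ = g⁻¹ * (b * x) * g := by rw [hbx']
        _ = _ := by group
    · rintro ⟨i, hi⟩
      apply hbxn
      have h1 : (x' : G) ^ i = b' := congrArg Subtype.val hi
      rw [hx', hb'] at h1
      refine ⟨i, ?_⟩
      show (x : G) ^ i = b
      have h2 : g⁻¹ * (x : G) * g = g⁻¹ * x * g⁻¹⁻¹ := by rw [inv_inv]
      rw [h2, conj_zpow, inv_inv] at h1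
      exact mul_left_cancel (mul_right_cancel h1)
    · intro h1
      refine ht x x' w g hx hx'o hfr h1 hwz hw2 hw1 hne hxw ?_
      rw [hx']
      calc g * ((g⁻¹ * (x : G) * g) * z) * g⁻¹ = x * (g * z * g⁻¹) := by group
        _ = x * w := by rw [hg]
    · intro q hq hqx
      -- `[b, g q g⁻¹] ∈ N ∩ g Q g⁻¹`
      have h1 : (g * q * g⁻¹) * x = x * (g * q * g⁻¹) := by
        rw [hx'] at hqx
        calc (g * q * g⁻¹) * x = g * (q * (g⁻¹ * x * g)) * g⁻¹ := by group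
          _ = g * ((g⁻¹ * x * g) * q) * g⁻¹ := by rw [hqx]
          _ = _ := by group
      have hqD : g * q * g⁻¹ ∈ centralizer ({(x : G)} : Set G) := mem_centralizer_singleton_iff.2 h1
      have h2 := N.mul_mem hbN (hN.nN.conj_mem _ (N.inv_mem hbN) ⟨_, hqD⟩)
      have h3 : (b' : G) * q * (b' : G)⁻¹ * q⁻¹ ∈ Q :=
        Q.mul_mem (conj_Q h b' q hq) (Q.inv_mem hq)
      have h4 : ((b' : G) * q * (b' : G)⁻¹ * q⁻¹) = 1 := by
        have h5 := MFive.pow_four h h3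
        have h6 : g * ((b' : G) * q * (b' : G)⁻¹ * q⁻¹) * g⁻¹ = b * ((g * q * g⁻¹) * b⁻¹ * (g * q * g⁻¹)⁻¹) := by
          rw [hb']; group
        have h7 : orderOf ((⟨b, hbD⟩ : ↥(centralizer ({(x : G)} : Set G))) * (⟨_, hqD⟩ * ⟨b, hbD⟩⁻¹ * ⟨_, hqD⟩⁻¹)) ∣ 4 := by
          apply orderOf_dvd_of_pow_eq_one
          apply Subtype.ext
          show (b * ((g * q * g⁻¹) * b⁻¹ * (g * q * g⁻¹)⁻¹)) ^ 4 = 1
          rw [← h6, conj_pow, h5, mul_one, mul_inv_cancel]
        have h8 : orderOf ((⟨b, hbD⟩ : ↥(centralizer ({(x : G)} : Set G))) * (⟨_, hqD⟩ * ⟨b, hbD⟩⁻¹ * ⟨_, hqD⟩⁻¹)) ∣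
            Nat.card N := by
          rw [← Subgroup.orderOf_mk _ h2]
          exact orderOf_dvd_natCard _
        have h9 : orderOf ((⟨b, hbD⟩ : ↥(centralizer ({(x : G)} : Set G))) * (⟨_, hqD⟩ * ⟨b, hbD⟩⁻¹ * ⟨_, hqD⟩⁻¹)) = 1 := by
          have h10 : Nat.Coprime 4 (Nat.card N) := by
            have : Nat.Coprime (2 ^ 2) (Nat.card N) := Nat.Coprime.pow_left 2 (Nat.coprime_two_left.2 hN.oN)
            exact this
          exact Nat.eq_one_of_dvd_coprimes h10 h7 h8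
        have h11 := congrArg Subtype.val (orderOf_eq_one_iff.1 h9)
        have h12 : b * ((g * q * g⁻¹) * b⁻¹ * (g * q * g⁻¹)⁻¹) = 1 := h11
        rw [← h6] at h12
        exact conj_eq_one_iff.1 h12
      rw [mul_inv_eq_one, mul_inv_eq_iff_eq_mul] at h4
      exact h4.symm
  have hG := good_of_inputs h I hb'o (Or.inr h12)
  -- `a ∈ ⟨b⟩`
  have hag : (g⁻¹ * a * g) * (b' : G) = b' * (g⁻¹ * a * g) := by
    rw [hb']
    calc (g⁻¹ * a * g) * (g⁻¹ * b * g) = g⁻¹ * (a * b) * g := by group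
      _ = g⁻¹ * (b * a) * g := by rw [hab']
      _ = _ := by group
  have hb'1 : (b' : G) ≠ 1 := by
    intro h1
    have h2 : b' = 1 := Subtype.ext h1
    rw [h2, orderOf_one] at hb'o
    norm_num at hb'o
  have hmem := mem_zpowers_of_simple hC (Cfsg.Agent.H561.AAM3.cent_ne_top hna hb'1) hG.simple hG.nc
    (hC.conj_mem' g haC) hag
  obtain ⟨i, hi⟩ := mem_zpowers_iff.1 hmem
  refine hinv _ (hC.conj_mem' g haC) ?_ z hz2 h.large.z_ne ?_
  · intro h1
    apply ha1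
    calc a = g * (g⁻¹ * a * g) * g⁻¹ := by group
      _ = 1 := by rw [h1]; group
  · rw [← hi]
    exact ((show Commute (b' : G) z from mem_centralizer_singleton_iff.1 b'.2).zpow_left i).eq

/-- **The theorem for a group with a chart.** -/
theorem crow_three_chart [Finite G] [IsSimpleGroup G] (hna : ¬ IsMulCommutative G) (h : Chart Q z eta pi)
    (I : CoOne) (ht : TrNe z pi) (hpr : HasPair z pi)
    (hconj : ∀ x t : G, x ^ 3 = 1 → t * t = 1 → t ≠ 1 → x * t = t * x → ∃ g : G, (g * z * g⁻¹) * x = x * (g * z * g⁻¹))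
    {C : Set G} (hC : Min 3 C)
    (hinv : ∀ c ∈ C, c ≠ 1 → ∀ t : G, t * t = 1 → t ≠ 1 → c * t = t * c → False) : ∀ c ∈ C, c = 1 := by
  have hO : pCore 3 G = ⊥ := pCore_eq_bot_of_simple hna 3
  intro c₀ hc₀
  by_contra hc₀1
  obtain ⟨x₀, u, k, hx₀, hfr₀, huz, hux, hune, hk⟩ := id hpr
  have hne1 : ∀ {v : G}, orderOf v = 3 → v ≠ 1 := by
    rintro v hv rfl
    rw [orderOf_one] at hv
    norm_num at hv
  -- `C(x₀)` does not contain a Sylow 3-subgroup
  have hx₀i : 3 ∣ (centralizer ({(x₀ : G)} : Set G)).index := by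
    by_contra hi
    obtain ⟨A, hA, hn, hp, hab, e, he, he1, heA⟩ := hC.exists_abelian hO hc₀ hc₀1
      (Cfsg.Agent.H561.AAM3.cent_ne_top hna (hne1 (v := (x₀ : G)) (by rw [Subgroup.orderOf_coe, hx₀]))) hi
    exact false_of_abelian hna h I ht hx₀ hfr₀ huz hux hune hk hC hinv hA hn hp hab he he1 heA
  -- nor does any other `C(v)`, `v ∈ C(z)` of order 3
  have key : ∀ v : centralizer ({z} : Set G), orderOf v = 3 → 3 ∣ (centralizer ({(v : G)} : Set G)).index := by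
    intro v hvo
    by_contra hi
    have hfin : ∀ d : G, d * (v : G) * d⁻¹ = x₀ → False := by
      intro d hd
      apply hi
      have h1 : (centralizer ({(v : G)} : Set G)).index = (centralizer ({(x₀ : G)} : Set G)).index := by
        obtain ⟨⟨e⟩, -⟩ := exists_XX_equiv hd
        have h2 := Subgroup.card_mul_index (centralizer ({(v : G)} : Set G))
        have h3 := Subgroup.card_mul_index (centralizer ({(x₀ : G)} : Set G))
        rw [Nat.card_congr e.toEquiv] at h2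
        exact Nat.eq_of_mul_eq_mul_left Nat.card_pos (h2.trans h3.symm)
      rw [h1]
      exact hx₀i
    rcases I.ranks _ (orderOf_pi h hvo) with h1 | h1 | h1
    · obtain ⟨s, hs⟩ := LThreeCo1.Ranks.zero (pi v) (pi x₀) (orderOf_pi h hvo) (orderOf_pi h hx₀) h1 hfr₀
      obtain ⟨d, hd⟩ := exists_conj_of_conj h (by rw [← hvo, pow_orderOf_eq_one]) (by rw [← hx₀, pow_orderOf_eq_one]) hs
      exact hfin d (congrArg Subtype.val hd)
    · obtain ⟨d, hd⟩ := conj_six h ht I.ranks I.six (fun x hx h2 => ⟨(good_of_inputs h I hx h2).simple,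
        (good_of_inputs h I hx h2).nc⟩) hx₀ hfr₀ huz hux hune hk hvo h1
      exact hfin d hd
    · have hG := good_of_inputs h I hvo h1
      have hv1 : (v : G) ≠ 1 := hne1 (by rw [Subgroup.orderOf_coe, hvo])
      obtain ⟨P, hP⟩ := exists_sylow_le (p := 3) hi
      obtain ⟨e, he, he1, heP⟩ := hC.exists_mem_sylow hc₀ hc₀1 P
      have h2 := mem_zpowers_of_simple hC (Cfsg.Agent.H561.AAM3.cent_ne_top hna hv1) hG.simple hG.nc he
        (mem_centralizer_singleton_iff.1 (hP heP))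
      obtain ⟨i, hi'⟩ := mem_zpowers_iff.1 h2
      refine hinv e he he1 z h.large.z_sq h.large.z_ne ?_
      rw [← hi']
      exact ((show Commute (v : G) z from mem_centralizer_singleton_iff.1 v.2).zpow_left i).eq
  -- a central element of a Sylow subgroup
  obtain ⟨y, hy, hF⟩ := H711.MonReal.exists_fi24 h I
  have hy3 : y ^ 3 = 1 := by rw [← hy, pow_orderOf_eq_one]
  have hp : IsPGroup 3 (zpowers y) := IsPGroup.of_card (n := 1) (by rw [Nat.card_zpowers, hy, pow_one])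
  obtain ⟨P, hP⟩ := hp.exists_le_sylow
  have hyP : y ∈ P := hP (mem_zpowers y)
  have hne : Nontrivial ↥(P : Subgroup G) := by
    refine ⟨⟨⟨y, hyP⟩, 1, fun h0 => ?_⟩⟩
    have : y = 1 := congrArg Subtype.val h0
    rw [this, orderOf_one] at hy
    norm_num at hy
  have hcn' : Nontrivial (Subgroup.center ↥(P : Subgroup G)) := P.isPGroup'.center_nontrivial
  have h3 : 3 ∣ Nat.card (Subgroup.center ↥(P : Subgroup G)) := by
    obtain ⟨n, hn⟩ := (P.isPGroup'.to_subgroup (Subgroup.center ↥(P : Subgroup G))).exists_card_eq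
    rw [hn]
    refine dvd_pow_self 3 fun h0 => ?_
    rw [h0, pow_zero] at hn
    exact (Finite.one_lt_card (α := Subgroup.center ↥(P : Subgroup G))).ne' hn
  obtain ⟨⟨⟨w, hwP⟩, hwc⟩, hw⟩ := exists_prime_orderOf_dvd_card' 3 h3
  rw [Subgroup.orderOf_mk, Subgroup.orderOf_mk] at hw
  have hw3 : w ^ 3 = 1 := by rw [← hw, pow_orderOf_eq_one]
  have hcen : ∀ y ∈ P, y * w = w * y := fun y hy =>
    congrArg Subtype.val (Subgroup.mem_center_iff.1 hwc ⟨y, hy⟩)
  obtain ⟨t, htt, ht1, -, htw⟩ := H711.MonReal.even_of_XX hy3 hw3 (hcen y hyP).symm fun g hg => H711.MonReal.even_of_iso hF hg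
  obtain ⟨g, hg⟩ := hconj w t hw3 htt ht1 htw.symm
  -- conjugate `w` into `C(z)`
  have hwz : (g⁻¹ * w * g) * z = z * (g⁻¹ * w * g) := by
    calc (g⁻¹ * w * g) * z = g⁻¹ * (w * (g * z * g⁻¹)) * g := by group
      _ = g⁻¹ * ((g * z * g⁻¹) * w) * g := by rw [hg]
      _ = z * (g⁻¹ * w * g) := by group
  have h4 := key ⟨g⁻¹ * w * g, mem_centralizer_singleton_iff.2 hwz⟩ (by rw [Subgroup.orderOf_mk, orderOf_conj', hw])
  have h5 : (centralizer ({g⁻¹ * w * g} : Set G)).index = (centralizer ({w} : Set G)).index := by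
    obtain ⟨⟨e⟩, -⟩ := exists_XX_equiv (x' := g⁻¹ * w * g) (x := w) (g := g) (by group)
    have h2 := Subgroup.card_mul_index (centralizer ({g⁻¹ * w * g} : Set G))
    have h3 := Subgroup.card_mul_index (centralizer ({w} : Set G))
    rw [Nat.card_congr e.toEquiv] at h2
    exact Nat.eq_of_mul_eq_mul_left Nat.card_pos (h2.trans h3.symm)
  have h6 : (P : Subgroup G) ≤ centralizer ({w} : Set G) := fun s hs => mem_centralizer_singleton_iff.2 (hcen s hs)
  exact P.not_dvd_index ((h5 ▸ h4).trans (index_dvd_of_le h6))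

end chart

section model

open Cfsg.Agent.MonsterX Cfsg.Agent.MonsterX.MainPack Cfsg.Agent.MonsterP

/-- **`p = 3`** -/
theorem crow_three {C : Set ↥InstData.M.G} (h : Min 3 C) : ∀ c ∈ C, c = 1 := by
  have := LThreeMB.Row.finite_model
  have := LThreeMB.Row.simple_model
  exact crow_three_chart na_model (KChart.chart KDone.lft LThreeMB.Row.cent) LThreeMB.CoOneFin.coOne
    (KPair.trNe KDone.lft LThreeMB.Row.cent (LThreeMBTr.traceNe KDone.lft LThreeMBTr.TensK.tens))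
    (KPair.hasPair KDone.lft LThreeMB.Row.cent LThreeMB.Row.second LThreeMB.COct.octPair)
    (fun x t h1 h2 h3 h4 => LThreeM.FiRow.exists_z_of_comm h1 h2 h3 h4) h
    (fun c hc hc1 t ht ht1 hct => not_comm (by norm_num) h hc hc1 ht ht1 hct)

end model

end Cfsg.Agent.H961.CRM
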