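import Cfsg.Agent.H961.CRM.Two
import Cfsg.Agent.H961.CRM.Three
import Cfsg.Agent.H961.CRM.Five
import Cfsg.Agent.H961.CRM.Seven
import Cfsg.Agent.H961.CRM.Thirteen

/-!
# S3828, the row of the Monster (helper961)

`crow_m` : `CRow p G` for `Spor.IsoM G` and all primes `p`.
-/

set_option autoImplicit false
set_option maxRecDepth 100000

namespace Cfsg.Agent.H961.CRM

open Subgroup Cfsg Cfsg.Agent.H162.CCR
open Cfsg.Agent.MonsterX Cfsg.Agent.MonsterX.MainPack Cfsg.Agent.MonsterP

/-- the model -/
theorem crow_model (p : ℕ) [hp : Fact p.Prime] : CRow p ↥InstData.M.G := by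
  intro C h
  by_cases hsq : p ^ 2 ∣ Nat.card ↥InstData.M.G
  · rw [MonsterP.EquivOf.isM_model.2] at hsq
    obtain ⟨q, hq, hqp⟩ := Cfsg.Agent.H561.AATool.mem_of_sq hp.out [(2, 46), (3, 20), (5, 9), (7, 6), (11, 2), (13, 3),
      (17, 1), (19, 1), (23, 1), (29, 1), (31, 1), (41, 1), (47, 1), (59, 1), (71, 1)] (by decide +kernel) (by norm_num) hsq
    have hpp : p = 2 ∨ p = 3 ∨ p = 5 ∨ p = 7 ∨ p = 11 ∨ p = 13 := by
      fin_cases hq <;> simp only at hqp <;> subst hqp <;>
        first | (left; rfl) | (right; left; rfl) | (right; right; left; rfl) | (right; right; right; left; rfl) |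
          (right; right; right; right; left; rfl) | (right; right; right; right; right; rfl) |
          exact absurd hsq (by norm_num)
    rcases hpp with rfl | rfl | rfl | rfl | rfl | rfl
    · exact crow_two h
    · exact crow_three h
    · exact crow_five h
    · exact crow_seven h
    · exact crow_eleven h
    · exact crow_thirteen h
  · by_cases hd : p ∣ Nat.card ↥InstData.M.G
    · refine crow_cyc ?_ hsq h
      rintro rfl
      apply hsq
      rw [MonsterP.EquivOf.isM_model.2]
      norm_num
    · exact crow_not_dvd hd h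

/-- **The row of the Monster** -/
theorem crow_m {G : Type*} [Group G] (h : Spor.IsoM G) (p : ℕ) [Fact p.Prime] : CRow p G := by
  obtain ⟨e⟩ := h
  obtain ⟨f⟩ := Cfsg.Agent.MonsterP.Equiv.equiv
  exact CRow.of_equiv (e.trans f) (crow_model p)

end Cfsg.Agent.H961.CRM
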