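import Cfsg.Agent.H162.CC.Tools3

/-!
# S3828: abelian Sylow subgroups and four-groups (helper961)

`four_abelian` : `p` odd, abelian Sylow `p`-subgroups, `p ^ 2 ∤ |C(s)|` for all involutions `s`, an element `u` of order
`p` commuting with a four-group, the non-trivial elements of `C` commute with no involution: `C ⊆ {1}`.
-/

set_option autoImplicit false

namespace Cfsg.Agent.H961.CRM

open Subgroup Cfsg Cfsg.Agent.H162.CCR

variable {G : Type*} [Group G] [Finite G] {p : ℕ} [hp : Fact p.Prime]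

/-- an element of order `p` and a `p`-element commuting with it and with `s`, `p ^ 2 ∤ |C(s)|` -/
theorem mem_zpowers_of_sq {u y s : G} (hu : orderOf u = p) (hy : IsPGroup p ↥(zpowers y)) (hyu : y * u = u * y)
    (hys : y * s = s * y) (hus : u * s = s * u) (hsq : ¬ p ^ 2 ∣ Nat.card ↥(centralizer ({s} : Set G))) :
    y ∈ zpowers u := by
  by_contra hn
  apply hsq
  have hup : IsPGroup p ↥(zpowers u) := IsPGroup.of_card (n := 1) (by rw [Nat.card_zpowers, hu, pow_one])
  have h1 : IsPGroup p ↥(zpowers u ⊔ zpowers y : Subgroup G) := by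
    refine hup.to_sup_of_normal_left' hy ?_
    refine zpowers_le.2 ?_
    rw [mem_normalizer_iff]
    intro a
    have key : ∀ k : ℤ, y * u ^ k * y⁻¹ = u ^ k := fun k => by
      rw [((show Commute y u from hyu).zpow_right k).eq, mul_inv_cancel_right]
    constructor
    · intro ha
      obtain ⟨k, rfl⟩ := mem_zpowers_iff.1 ha
      rw [key]
      exact ha
    · intro ha
      obtain ⟨k, hk⟩ := mem_zpowers_iff.1 ha
      refine mem_zpowers_iff.2 ⟨k, ?_⟩
      have h2 := key k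
      rw [hk] at h2
      rw [hk]
      have h3 : y * (y * a * y⁻¹) * y⁻¹ = y * a * y⁻¹ := h2
      exact mul_left_cancel (mul_right_cancel h3)
  have h2 : zpowers u < zpowers u ⊔ zpowers y := by
    refine lt_of_le_of_ne le_sup_left fun e => hn ?_
    rw [e]
    exact mem_sup_right (mem_zpowers y)
  have h3 : zpowers u ⊔ zpowers y ≤ centralizer ({s} : Set G) :=
    sup_le (zpowers_le.2 (mem_centralizer_singleton_iff.2 hus)) (zpowers_le.2 (mem_centralizer_singleton_iff.2 hys))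
  refine dvd_trans ?_ (card_dvd_of_le h3)
  obtain ⟨n, hn'⟩ := IsPGroup.iff_card.1 h1
  rw [hn']
  refine pow_dvd_pow p ?_
  by_contra h4
  have h5 : Nat.card ↥(zpowers u ⊔ zpowers y : Subgroup G) ≤ Nat.card ↥(zpowers u) := by
    rw [hn', Nat.card_zpowers, hu]
    calc p ^ n ≤ p ^ 1 := Nat.pow_le_pow_right hp.out.pos (by omega)
      _ = p := pow_one p
  exact h2.ne (eq_of_le_of_card_ge h2.le h5)

/-- **The criterion.** -/
theorem four_abelian (hp2 : p ≠ 2) {C : Set G} (h : Min p C)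
    (hab : ∀ P : Sylow p G, ∀ a ∈ P, ∀ b ∈ P, a * b = b * a)
    (hcomm : ∀ c ∈ C, c ≠ 1 → ∀ t : G, t * t = 1 → t ≠ 1 → c * t = t * c → False)
    (hsq : ∀ s : G, s * s = 1 → s ≠ 1 → ¬ p ^ 2 ∣ Nat.card ↥(centralizer ({s} : Set G)))
    (htop : ∀ x : G, x ≠ 1 → centralizer ({x} : Set G) ≠ ⊤)
    {u v t : G} (hu : orderOf u = p) (hv : v * v = 1) (hv1 : v ≠ 1) (ht : t * t = 1) (ht1 : t ≠ 1)
    (huv : u * v = v * u) (hut : u * t = t * u) (hvt : v * t = t * v) (hne : v ≠ t) : ∀ c ∈ C, c = 1 := by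
  intro c₀ hc₀
  by_contra hc₀1
  -- a conjugate of `c₀` commuting with `u`
  have hup : IsPGroup p ↥(zpowers u) := IsPGroup.of_card (n := 1) (by rw [Nat.card_zpowers, hu, pow_one])
  obtain ⟨P, hP⟩ := hup.exists_le_sylow
  have huP : u ∈ P := hP (mem_zpowers u)
  obtain ⟨c, hc, hc1, hcP⟩ := h.exists_mem_sylow hc₀ hc₀1 P
  have hcu : c * u = u * c := hab P c hcP u huP
  have hu1 : u ≠ 1 := by
    rintro rfl
    rw [orderOf_one] at hu
    exact hp.out.one_lt.ne hu
  have hcC : c ∈ centralizer ({u} : Set G) := mem_centralizer_singleton_iff.2 hcu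
  have hmem := h.loc _ (htop u hu1) c hc hcC
  -- `Y = O_p(C(u))`
  let Y : Subgroup G := (pCore p ↥(centralizer ({u} : Set G))).map (centralizer ({u} : Set G)).subtype
  have hYp : IsPGroup p ↥Y := (Cfsg.Agent.Lib.Cores.pCore_isPGroup (G := ↥(centralizer ({u} : Set G))) p).map _
  have hYn : ∀ a : G, a * u = u * a → ∀ y ∈ Y, a * y * a⁻¹ ∈ Y := by
    rintro a ha _ ⟨y, hy, rfl⟩
    exact ⟨_, (Cfsg.Agent.Lib.Cores.pCore_normal (G := ↥(centralizer ({u} : Set G))) p).conj_mem y hy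
      ⟨a, mem_centralizer_singleton_iff.2 ha⟩, rfl⟩
  have hYu : ∀ y ∈ Y, y * u = u * y := by
    rintro _ ⟨y, -, rfl⟩
    exact mem_centralizer_singleton_iff.1 y.2
  have hYab : ∀ a ∈ Y, ∀ b ∈ Y, a * b = b * a := by
    obtain ⟨P', hP'⟩ := hYp.exists_le_sylow
    exact fun a ha b hb => hab P' a (hP' ha) b (hP' hb)
  -- the elements of `Y` commuting with an involution `s` of `C(u)`
  have key : ∀ s : G, s * s = 1 → s ≠ 1 → u * s = s * u → ∀ y ∈ Y, y * s = s * y → y ∈ zpowers u := by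
    intro s hs hs1 hus y hy hys
    refine mem_zpowers_of_sq hu ?_ (hYu y hy) hys hus (hsq s hs hs1)
    exact hYp.to_le (zpowers_le.2 hy)
  have cY : c ∈ Y := ⟨_, hmem, rfl⟩
  have hvi : v⁻¹ = v := inv_eq_of_mul_eq_one_left hv
  have hti : t⁻¹ = t := inv_eq_of_mul_eq_one_left ht
  obtain ⟨w, hw⟩ : ∃ w, w = v * t := ⟨_, rfl⟩
  have hww : w * w = 1 := by
    rw [hw]
    calc v * t * (v * t) = v * (t * v) * t := by group
      _ = (v * v) * (t * t) := by rw [← hvt]; group
      _ = 1 := by rw [hv, ht, mul_one]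
  have hw1 : w ≠ 1 := by
    intro h1
    apply hne
    rw [hw] at h1
    rw [eq_inv_of_mul_eq_one_left h1, hti]
  have huw : u * w = w * u := by rw [hw, ← mul_assoc, huv, mul_assoc, hut, ← mul_assoc]
  have hwi : w⁻¹ = w := inv_eq_of_mul_eq_one_left hww
  -- `c ^ s`
  have hYs : ∀ s : G, u * s = s * u → ∀ y ∈ Y, s * y * s⁻¹ ∈ Y := fun s hs y hy => hYn s hs.symm y hy
  have cv := hYs v huv c cY
  have ct := hYs t hut c cY
  have cw := hYs w huw c cY
  obtain ⟨cv', hcv⟩ : ∃ x, x = v * c * v⁻¹ := ⟨_, rfl⟩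
  obtain ⟨ct', hct⟩ : ∃ x, x = t * c * t⁻¹ := ⟨_, rfl⟩
  obtain ⟨cw', hcw⟩ : ∃ x, x = w * c * w⁻¹ := ⟨_, rfl⟩
  rw [← hcv] at cv
  rw [← hct] at ct
  rw [← hcw] at cw
  -- the products `c c ^ s`
  have prod : ∀ s : G, s * s = 1 → ∀ a b : G, a ∈ Y → b ∈ Y → b = s * a * s⁻¹ → (a * b) * s = s * (a * b) := by
    intro s hs a b ha hb e
    have hsi : s⁻¹ = s := inv_eq_of_mul_eq_one_left hs
    have e2 : s * b * s⁻¹ = a := by
      rw [e, hsi]
      calc s * (s * a * s) * s = (s * s) * a * (s * s) := by group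
        _ = a := by rw [hs, one_mul, mul_one]
    have e3 : s * (a * b) * s⁻¹ = a * b := by
      calc s * (a * b) * s⁻¹ = (s * a * s⁻¹) * (s * b * s⁻¹) := by group
        _ = b * a := by rw [← e, e2]
        _ = a * b := hYab b hb a ha
    exact (mul_inv_eq_iff_eq_mul.1 e3).symm
  have m1 : c * cv' ∈ zpowers u := key v hv hv1 huv _ (Y.mul_mem cY cv) (prod v hv c cv' cY cv hcv)
  have m2 : c * ct' ∈ zpowers u := key t ht ht1 hut _ (Y.mul_mem cY ct) (prod t ht c ct' cY ct hct)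
  have m3 : c * cw' ∈ zpowers u := key w hww hw1 huw _ (Y.mul_mem cY cw) (prod w hww c cw' cY cw hcw)
  -- `ct' cw'` commutes with `v`
  have m4 : ct' * cw' ∈ zpowers u := by
    refine key v hv hv1 huv _ (Y.mul_mem ct cw) (prod v hv ct' cw' ct cw ?_)
    rw [hcw, hct, hw]
    group
  have m5 : c * c ∈ zpowers u := by
    have h1 := (zpowers u).mul_mem m1 (Subgroup.mul_mem _ m2 ((zpowers u).mul_mem m3
      ((zpowers u).inv_mem ((zpowers u).mul_mem m1 m4))))
    have e1 : ∀ a ∈ Y, ∀ b ∈ Y, a * b = b * a := hYab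
    have e : c * cv' * (c * ct' * (c * cw' * (c * cv' * (ct' * cw'))⁻¹)) = c * c := by
      have c1 : Commute c cv' := e1 _ cY _ cv
      have c2 : Commute c ct' := e1 _ cY _ ct
      have c3 : Commute c cw' := e1 _ cY _ cw
      have c4 : Commute cv' ct' := e1 _ cv _ ct
      have c5 : Commute cv' cw' := e1 _ cv _ cw
      have c6 : Commute ct' cw' := e1 _ ct _ cw
      have h2 : c * cv' * (c * ct' * (c * cw')) = c * c * (c * cv' * (ct' * cw')) := by
        calc c * cv' * (c * ct' * (c * cw')) = c * (cv' * c) * (ct' * c) * cw' := by group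
          _ = c * (c * cv') * (c * ct') * cw' := by rw [c1.eq, c2.eq]
          _ = c * c * (cv' * c) * ct' * cw' := by group
          _ = c * c * (c * cv') * ct' * cw' := by rw [c1.eq]
          _ = _ := by group
      calc c * cv' * (c * ct' * (c * cw' * (c * cv' * (ct' * cw'))⁻¹)) =
          c * cv' * (c * ct' * (c * cw')) * (c * cv' * (ct' * cw'))⁻¹ := by group
        _ = c * c := by rw [h2, mul_inv_cancel_right]
    rwa [e] at h1
  -- `c ∈ ⟨u⟩`
  have m6 : c ∈ zpowers u := by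
    obtain ⟨k, hk⟩ := h.pel c hc
    have ho : Odd (orderOf c) := by
      rw [hk]
      exact (hp.out.odd_of_ne_two hp2).pow
    obtain ⟨j, hj⟩ := ho
    have h1 : c = (c * c) ^ (j + 1) := by
      rw [← pow_two, ← pow_mul]
      have e1 : 2 * (j + 1) = orderOf c + 1 := by omega
      rw [e1, pow_succ, pow_orderOf_eq_one, one_mul]
    rw [h1]
    exact pow_mem m5 _
  obtain ⟨k, rfl⟩ := mem_zpowers_iff.1 m6
  exact hcomm _ hc hc1 v hv hv1 ((show Commute u v from huv).zpow_left k).eq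

end Cfsg.Agent.H961.CRM
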