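import Cfsg.Agent.H961.CRM.Base
import Cfsg.Agent.BpSpor.MBigEleven

/-!
# S3828, the Monster: primes with `p ^ 2 ∤ |M|` (helper961)

* `not_conj` : the two classes of involutions of the model are different;
* `crow_cyc` : `p ^ 2 ∤ |M|`, `p` odd;
* `crow_not_dvd` : `p ∤ |M|`.
-/

set_option autoImplicit false
set_option maxRecDepth 100000

namespace Cfsg.Agent.H961.CRM

open Subgroup Cfsg Cfsg.Agent.H162.CCR
open Cfsg.Agent.MonsterX Cfsg.Agent.MonsterX.Model Cfsg.Agent.MonsterX.MainPack Cfsg.Agent.MonsterP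
open Cfsg.Agent.MonsterX.MainSimple Cfsg.Agent.MonsterX.MainBasic Cfsg.Agent.MonsterU
open Cfsg.Agent.LThreeMB (KChart.chart)

/-- the two classes of involutions are different -/
theorem not_conj {t : ↥InstData.M.G} (ht : LThreeB.Row.TA t) : ¬ IsConj KDone.K.z t := by
  intro h
  obtain ⟨g, hg⟩ := isConj_iff.1 h
  have h1 := BpSpor.MBigModel.card_cent_z
  have h2 := BpSpor.MBigModel.card_cent_t ht
  have h3 := BpSpor.card_cent_of_conj hg
  have h4 := h2.symm.trans (h3.trans h1)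
  revert h4
  norm_num

variable {p : ℕ} [hp : Fact p.Prime] {C : Set ↥InstData.M.G}

/-- **`p ^ 2 ∤ |M|`** -/
theorem crow_cyc (hp2 : p ≠ 2) (hsq : ¬ p ^ 2 ∣ Nat.card ↥InstData.M.G) (h : Min p C) : ∀ c ∈ C, c = 1 := by
  have hfin := MFive.Row.finite_model
  have hs := MFive.Row.simple_model
  intro c hc
  by_contra hc1
  have hz := (KChart.chart KDone.lft MFive.Row.hc).large
  refine not_conj (t := tG KDone.mGroup KDone.mRep) (IsConj.refl _) ?_
  exact h.isConj_of_cyclic hs pCore_model hsq hc hc1 (fun d hd hd1 => odd_model hp2 h hd hd1) hz.z_sq hz.z_ne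
    (Subtype.ext KDone.mRep.t₀_sq) (fun h => KDone.mRep.t₀_ne (congrArg Subtype.val h))

/-- **`p ∤ |M|`** -/
theorem crow_not_dvd (hd : ¬ p ∣ Nat.card ↥InstData.M.G) (h : Min p C) : ∀ c ∈ C, c = 1 := by
  intro c hc
  obtain ⟨k, hk⟩ := h.pel c hc
  rcases k with - | k
  · rw [pow_zero, orderOf_eq_one_iff] at hk
    exact hk
  · exfalso
    apply hd
    have h1 : orderOf c ∣ Nat.card ↥InstData.M.G := orderOf_dvd_natCard c
    rw [hk, pow_succ] at h1
    exact (dvd_mul_left p (p ^ k)).trans h1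

end Cfsg.Agent.H961.CRM
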