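import Cfsg.Agent.H961.CRM.Ab
import Cfsg.Agent.H961.CRM.Cyc
import Cfsg.Agent.H109.NrM

/-!
# S3828, the Monster: `p = 11` (helper961)
-/

set_option autoImplicit false
set_option maxRecDepth 100000

namespace Cfsg.Agent.H961.CRM

open Subgroup Cfsg Cfsg.Agent.H162.CCR
open Cfsg.Agent.MonsterX Cfsg.Agent.BpSpor.MBigModel

theorem orderOf_two {G : Type*} [Group G] {s : G} (hs : s * s = 1) (hs1 : s ≠ 1) : orderOf s = 2 := by
  have : Fact (Nat.Prime 2) := ⟨Nat.prime_two⟩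
  exact orderOf_eq_prime (by rw [pow_two, hs]) hs1

theorem sq_of_two {G : Type*} [Group G] {s : G} (hs : orderOf s = 2) : s * s = 1 ∧ s ≠ 1 := by
  refine ⟨by rw [← pow_two, ← hs, pow_orderOf_eq_one], ?_⟩
  rintro rfl
  rw [orderOf_one] at hs
  norm_num at hs

/-- **`p = 11`** -/
theorem crow_eleven {C : Set ↥InstData.M.G} (h : Min 11 C) : ∀ c ∈ C, c = 1 := by
  have hfin := MFive.Row.finite_model
  have hp : Nat.Prime 11 := by norm_num
  have hpf : Fact (Nat.Prime 11) := ⟨hp⟩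
  obtain ⟨y, w, hy, hw, hyz, hyw, hzw, hne⟩ := H109.Nr.M.exists_eleven
  have h3 : ¬ 11 ^ 3 ∣ Nat.card ↥InstData.M.G := by
    rw [card_M]
    norm_num
  refine four_abelian (by norm_num) h (H109.Nr.sylow_comm hp h3)
    (fun c hc hc1 t ht ht1 hct => not_comm (by norm_num) h hc hc1 ht ht1 hct)
    (fun s hs hs1 => not_sq (Or.inl rfl) (orderOf_two hs hs1)) (fun x hx => centralizer_ne_top hx) hy
    zz_sq zz_ne (sq_of_two hw).1 (sq_of_two hw).2 hyz hyw hzw hne

end Cfsg.Agent.H961.CRM
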