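import Cfsg.Agent.H961.CRM.Cyc

/-!
# S3828, the Monster: `p = 2` (helper961)

The abelian normal 2-subgroups of `C(z) = 2^{1+24}.Co1` are contained in `⟨z⟩`.
-/

set_option autoImplicit false
set_option maxRecDepth 100000

namespace Cfsg.Agent.H961.CRM

open Subgroup Cfsg Cfsg.Agent.H162.CCR
open Cfsg.Agent.MonsterU Cfsg.Agent.MonsterU.Ch
open Cfsg.Agent.MonsterU.Lam2 (L2)
open Cfsg.Spor (Co1)

universe u

section chart

variable {G : Type u} [Group G] {Q : Subgroup G} {z : G} {eta : G → L2}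
  {pi : Subgroup.centralizer ({z} : Set G) →* Co1}

/-- normal 2-subgroups of `C(z)` are contained in `Q` -/
theorem le_Q (h : Chart Q z eta pi) (hO : pCore 2 Co1 = ⊥) {A : Subgroup G}
    (hA : A ≤ centralizer ({z} : Set G)) (hn : centralizer ({z} : Set G) ≤ normalizer (A : Set G))
    (hp : IsPGroup 2 ↥A) : A ≤ Q := by
  intro a ha
  have h1 : (A.subgroupOf (centralizer ({z} : Set G))).Normal := ⟨by
    intro q hq d
    exact mem_subgroupOf.2 ((mem_normalizer_iff.1 (hn d.2) q).1 (mem_subgroupOf.1 hq))⟩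
  have h2 : IsPGroup 2 ↥(A.subgroupOf (centralizer ({z} : Set G))) := hp.comap_of_injective _ (subtype_injective _)
  have h3 : (A.subgroupOf (centralizer ({z} : Set G))).map pi ≤ pCore 2 Co1 :=
    Cfsg.Agent.Lib.Cores.le_pCore (h1.map pi h.pi_surj) (h2.map pi)
  rw [hO, le_bot_iff] at h3
  have h4 : pi ⟨a, hA ha⟩ ∈ (A.subgroupOf (centralizer ({z} : Set G))).map pi := ⟨_, mem_subgroupOf.2 ha, rfl⟩
  rw [h3, mem_bot] at h4
  exact (h.pi_eq_one _).1 h4

/-- **abelian normal 2-subgroups of `C(z)` are contained in `⟨z⟩`** -/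
theorem abelian_le (h : Chart Q z eta pi) (hO : pCore 2 Co1 = ⊥) {A : Subgroup G}
    (hA : A ≤ centralizer ({z} : Set G)) (hn : centralizer ({z} : Set G) ≤ normalizer (A : Set G))
    (hp : IsPGroup 2 ↥A) (hab : ∀ x ∈ A, ∀ y ∈ A, x * y = y * x) {a : G} (ha : a ∈ A) : a = 1 ∨ a = z := by
  have hAQ := le_Q h hO hA hn hp
  let U : AddSubgroup L2 :=
    { carrier := {v | ∃ x ∈ A, eta x = v}
      add_mem' := by
        rintro _ _ ⟨x, hx, rfl⟩ ⟨y, hy, rfl⟩
        exact ⟨x * y, A.mul_mem hx hy, h.eta_mul x (hAQ hx) y (hAQ hy)⟩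
      zero_mem' := ⟨1, A.one_mem, h.eta_one⟩
      neg_mem' := by
        rintro _ ⟨x, hx, rfl⟩
        exact ⟨x, hx, (Lam2.neg_eq _).symm⟩ }
  have hU : ∀ g : Co0, ∀ x ∈ U, g • x ∈ U := by
    rintro g _ ⟨x, hx, rfl⟩
    obtain ⟨c, hc⟩ := h.pi_surj (QuotientGroup.mk g)
    refine ⟨(c : G) * x * (c : G)⁻¹, (mem_normalizer_iff.1 (hn c.2) x).1 hx, ?_⟩
    rw [h.eta_conj c x (hAQ hx), hc, Lam2.mk_smul]
  rcases Lam2.irreducible U hU with h1 | h1
  · have h2 : eta a ∈ U := ⟨a, ha, rfl⟩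
    rw [h1, AddSubgroup.mem_bot] at h2
    exact (h.eta_zero a (hAQ ha)).1 h2
  · exfalso
    have h2 : ∀ x ∈ Q, ∀ y ∈ Q, x * y = y * x := by
      intro x hx y hy
      obtain ⟨x', hx', ex⟩ : eta x ∈ U := h1 ▸ AddSubgroup.mem_top _
      obtain ⟨y', hy', ey⟩ : eta y ∈ U := h1 ▸ AddSubgroup.mem_top _
      rw [h.comm_iff hx hy, ← ex, ← ey, ← h.comm_iff (hAQ hx') (hAQ hy')]
      exact hab x' hx' y' hy'
    have h3 : ∀ x ∈ Q, x = 1 ∨ x = z := fun x hx => h.large.cent x hx (h2 x hx)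
    have h4 := h.card_Q
    have h5 : Nat.card ↥Q ≤ 2 := by
      have hf := h.fin
      classical
      have hinj : Function.Injective (fun x : ↥Q => decide ((x : G) = 1)) := by
        intro x y hxy
        have hxy' : ((x : G) = 1) ↔ ((y : G) = 1) := by
          simpa using hxy
        apply Subtype.ext
        rcases h3 x x.2 with e1 | e1 <;> rcases h3 y y.2 with e2 | e2
        · rw [e1, e2]
        · rw [e1, hxy'.1 e1]
        · rw [e2, hxy'.2 e2]
        · rw [e1, e2]
      have h6 := Nat.card_le_card_of_injective _ hinj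
      rwa [Nat.card_eq_fintype_card (α := Bool), Fintype.card_bool] at h6
    rw [h4] at h5
    norm_num at h5

end chart

section model

open Cfsg.Agent.MonsterX Cfsg.Agent.MonsterX.Model Cfsg.Agent.MonsterX.MainPack Cfsg.Agent.MonsterP
open Cfsg.Agent.LThreeMB (KChart.chart)

theorem na_co1 : ¬ IsMulCommutative Co1 := by
  intro hc
  apply not_solvable_co1
  let _ : CommGroup Co1 := { (inferInstance : Group Co1) with mul_comm := fun a b => hc.is_comm.comm a b }
  infer_instance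

theorem pCore_co1 (p : ℕ) [Fact p.Prime] : pCore p Co1 = ⊥ := by
  have := CpAutBig.CoOneSeven.finite_co1
  have hs : IsSimpleGroup Co1 := Cfsg.Agent.S0399.result.1
  exact pCore_eq_bot_of_simple na_co1 p

/-- `C(z)` has odd index -/
theorem index_z : ¬ 2 ∣ (centralizer ({KDone.K.z} : Set ↥InstData.M.G)).index := by
  intro h
  have h1 := (centralizer ({KDone.K.z} : Set ↥InstData.M.G)).card_mul_index
  have h2 : Nat.card ↥(centralizer ({KDone.K.z} : Set ↥InstData.M.G)) * 2 ∣ Nat.card ↥InstData.M.G := by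
    rw [← h1]
    exact Nat.mul_dvd_mul_left _ h
  have h3 : Nat.card ↥(centralizer ({KDone.K.z} : Set ↥InstData.M.G)) = 2 ^ 25 * 4157776806543360000 :=
    BpSpor.MBigModel.card_cent_z
  rw [h3, BpSpor.MBigModel.card_M] at h2
  revert h2
  norm_num

/-- **`p = 2`** -/
theorem crow_two {C : Set ↥InstData.M.G} (h : Min 2 C) : ∀ c ∈ C, c = 1 := by
  have hfin := MFive.Row.finite_model
  have hs := MFive.Row.simple_model
  have hch := KChart.chart KDone.lft MFive.Row.hc
  refine h.eq_one_of_two_abelian pCore_model (centralizer_ne_top hch.large.z_ne) index_z ?_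
  intro A hA hn hp hab x hx
  rcases abelian_le hch (pCore_co1 2) hA hn hp hab hx with rfl | rfl
  · exact mul_one _
  · exact hch.large.z_sq

end model

end Cfsg.Agent.H961.CRM
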